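import Cfsg.Agent.H52.RankOne
import Cfsg.Agent.H54.ChevCtx

/-!
Rotating an element that exchanges a pair of opposite root subgroups, in odd characteristic.
-/

set_option autoImplicit false
set_option linter.unusedSectionVars false

open Cfsg.Lie
open scoped MatrixGroups

namespace H13.F4I

variable {F : Type*} [Field F]

/-- Two homomorphisms from `SL₂` agreeing on both unipotent subgroups are equal. -/
theorem sl2_hom_ext {H : Type*} [Group H] {φ ψ : SL(2, F) →* H}
    (h : ∀ (g : SL(2, F)) (t : F), ((g : Matrix (Fin 2) (Fin 2) F) = !![1, t; 0, 1] → φ g = ψ g) ∧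
      ((g : Matrix (Fin 2) (Fin 2) F) = !![1, 0; t, 1] → φ g = ψ g)) : φ = ψ := by
  let X : F → SL(2, F) := fun t => ⟨!![1, t; 0, 1], by simp [Matrix.det_fin_two]⟩
  let Y : F → SL(2, F) := fun t => ⟨!![1, 0; t, 1], by simp [Matrix.det_fin_two]⟩
  have hX : ∀ t, φ (X t) = ψ (X t) := fun t => (h (X t) t).1 rfl
  have hY : ∀ t, φ (Y t) = ψ (Y t) := fun t => (h (Y t) t).2 rfl
  have key : ∀ g : SL(2, F), (g : Matrix (Fin 2) (Fin 2) F) 1 0 ≠ 0 → φ g = ψ g := by
    intro g hc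
    set a := (g : Matrix (Fin 2) (Fin 2) F) 0 0 with ha
    set b := (g : Matrix (Fin 2) (Fin 2) F) 0 1 with hb
    set c := (g : Matrix (Fin 2) (Fin 2) F) 1 0 with hcd
    set d := (g : Matrix (Fin 2) (Fin 2) F) 1 1 with hd
    have hdet : a * d - b * c = 1 := by
      have := g.2
      rwa [Matrix.det_fin_two] at this
    have e : g = X ((a - 1) / c) * Y c * X ((d - 1) / c) := by
      apply Subtype.ext
      rw [Matrix.SpecialLinearGroup.coe_mul, Matrix.SpecialLinearGroup.coe_mul]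
      ext i j
      fin_cases i <;> fin_cases j <;>
        simp [X, Y, Matrix.mul_apply, Fin.sum_univ_two, ← ha, ← hb, ← hcd, ← hd] <;> field_simp
      all_goals first | linear_combination -hdet | ring
    rw [e, map_mul, map_mul, map_mul, map_mul, hX, hX, hY]
  refine MonoidHom.ext fun g => ?_
  by_cases hc : (g : Matrix (Fin 2) (Fin 2) F) 1 0 = 0
  · have h1 : ((g * Y 1 : SL(2, F)) : Matrix (Fin 2) (Fin 2) F) 1 0 ≠ 0 := by
      rw [Matrix.SpecialLinearGroup.coe_mul, Matrix.mul_apply, Fin.sum_univ_two, hc]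
      have hdet := g.2
      rw [Matrix.det_fin_two, hc, mul_zero, sub_zero] at hdet
      simpa [Y] using right_ne_zero_of_mul (hdet.symm ▸ one_ne_zero)
    have h2 := key _ h1
    rw [map_mul, map_mul, hY] at h2
    exact mul_right_cancel h2
  · exact key g hc

/-- Conjugation by `!![0, 1; c, 0]`. -/
def flipHom {c : F} (hc : c ≠ 0) : SL(2, F) →* SL(2, F) where
  toFun g := ⟨!![(g : Matrix (Fin 2) (Fin 2) F) 1 1, (g : Matrix (Fin 2) (Fin 2) F) 1 0 / c;
      c * (g : Matrix (Fin 2) (Fin 2) F) 0 1, (g : Matrix (Fin 2) (Fin 2) F) 0 0], by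
    have := g.2
    rw [Matrix.det_fin_two] at this
    rw [Matrix.det_fin_two_of]
    field_simp
    linear_combination this⟩
  map_one' := by
    apply Subtype.ext
    ext i j
    fin_cases i <;> fin_cases j <;> simp
  map_mul' g h := by
    apply Subtype.ext
    show _ = !![(g : Matrix (Fin 2) (Fin 2) F) 1 1, (g : Matrix (Fin 2) (Fin 2) F) 1 0 / c;
        c * (g : Matrix (Fin 2) (Fin 2) F) 0 1, (g : Matrix (Fin 2) (Fin 2) F) 0 0] *
      !![(h : Matrix (Fin 2) (Fin 2) F) 1 1, (h : Matrix (Fin 2) (Fin 2) F) 1 0 / c;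
        c * (h : Matrix (Fin 2) (Fin 2) F) 0 1, (h : Matrix (Fin 2) (Fin 2) F) 0 0]
    ext i j
    fin_cases i <;> fin_cases j <;>
      simp [Matrix.SpecialLinearGroup.coe_mul, Matrix.mul_apply, Fin.sum_univ_two] <;>
        field_simp <;> ring

theorem coe_flipHom {c : F} (hc : c ≠ 0) (g : SL(2, F)) :
    (flipHom hc g : Matrix (Fin 2) (Fin 2) F) =
      !![(g : Matrix (Fin 2) (Fin 2) F) 1 1, (g : Matrix (Fin 2) (Fin 2) F) 1 0 / c;
        c * (g : Matrix (Fin 2) (Fin 2) F) 0 1, (g : Matrix (Fin 2) (Fin 2) F) 0 0] := rfl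

variable {D : ChevalleyDatum} (C : H54.Ctx D)

include C in
theorem rank_twist {m : GL D.Idx F} {r : ℕ} (hr : r < D.nroots) {c : F} (hc : c ≠ 0)
    (h1 : ∀ t, m * H52.rt D r t * m⁻¹ = H52.rt D (D.neg r) (c * t))
    (h2 : ∀ t, m * H52.rt D (D.neg r) t * m⁻¹ = H52.rt D r (t / c)) :
    (∀ l : F, l ≠ 0 → (∃ a b : F, a ^ 2 - c * b ^ 2 = l) →
      ∃ y ∈ D.group F, y * m * y⁻¹ = H52.hElt D r l * m) ∧
    (∀ s : F, (2 : F) ≠ 0 → c = s ^ 2 →
      ∃ y ∈ D.group F, y * m * y⁻¹ = H52.nElt D r (1 / s) * m) := by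
  obtain ⟨φ, hmem, hφ⟩ := (C.hC.rankOneRel (F := F) hr).exists_hom
  have hgrp : ∀ g, φ g ∈ D.group F := fun g => (Subgroup.closure_le _).2 (by
    rintro x (⟨t, rfl⟩ | ⟨t, rfl⟩) <;> exact C.rt_mem_group _ _) (hmem g)
  have hflip : (MulAut.conj m).toMonoidHom.comp φ = φ.comp (flipHom hc) := by
    refine sl2_hom_ext fun g t => ⟨fun hg => ?_, fun hg => ?_⟩
    · simp only [MonoidHom.comp_apply, MulEquiv.coe_toMonoidHom, MulAut.conj_apply]
      rw [(hφ g t).1 hg, h1, (hφ (flipHom hc g) (c * t)).2]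
      simp [coe_flipHom, hg]
    · simp only [MonoidHom.comp_apply, MulEquiv.coe_toMonoidHom, MulAut.conj_apply]
      rw [(hφ g t).2 hg, h2, (hφ (flipHom hc g) (t / c)).1]
      simp [coe_flipHom, hg]
  have hconj : ∀ g h : SL(2, F), g = h * flipHom hc g → φ g * m * (φ g)⁻¹ = φ h * m := by
    intro g h e
    have e1 : m * φ g * m⁻¹ = φ (flipHom hc g) := by
      have := DFunLike.congr_fun hflip g
      simpa using this
    calc φ g * m * (φ g)⁻¹ = φ g * (m * φ g * m⁻¹)⁻¹ * m := by group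
      _ = _ := by
        rw [e1]
        conv_lhs => enter [1, 1]; rw [e, map_mul]
        group
  have hn : ∀ t : F, t ≠ 0 → ∃ N : SL(2, F), (N : Matrix (Fin 2) (Fin 2) F) = !![0, t; -1 / t, 0] ∧
      φ N = H52.nElt D r t := by
    intro t ht
    let X : F → SL(2, F) := fun t => ⟨!![1, t; 0, 1], by simp [Matrix.det_fin_two]⟩
    let Y : F → SL(2, F) := fun t => ⟨!![1, 0; t, 1], by simp [Matrix.det_fin_two]⟩
    refine ⟨X t * Y (-t⁻¹) * X t, ?_, ?_⟩
    · rw [Matrix.SpecialLinearGroup.coe_mul, Matrix.SpecialLinearGroup.coe_mul]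
      ext i j
      fin_cases i <;> fin_cases j <;>
        simp [X, Y, Matrix.mul_apply, Fin.sum_univ_two] <;> field_simp <;> first | ring1 | simp
    · rw [map_mul, map_mul, (hφ (X t) t).1 rfl, (hφ (Y (-t⁻¹)) (-t⁻¹)).2 rfl, H52.Checked.nElt_eq]
  refine ⟨fun l hl hab => ?_, fun s h20 hcs => ?_⟩
  · obtain ⟨a, b, hab⟩ := hab
    obtain ⟨N1, hN1, hφ1⟩ := hn l hl
    obtain ⟨N2, hN2, hφ2⟩ := hn (-1) (neg_ne_zero.2 one_ne_zero)
    let g : SL(2, F) := ⟨!![a, b; c * b / l, a / l], by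
      rw [Matrix.det_fin_two_of]
      field_simp
      linear_combination hab⟩
    refine ⟨φ g, hgrp g, ?_⟩
    have hg : (flipHom hc g : Matrix (Fin 2) (Fin 2) F) =
        !![a / l, c * b / l / c; c * b, a] := rfl
    rw [hconj g (N1 * N2) ?_, map_mul, hφ1, hφ2, H52.Checked.hElt_eq]
    apply Subtype.ext
    rw [Matrix.SpecialLinearGroup.coe_mul, Matrix.SpecialLinearGroup.coe_mul, hN1, hN2, hg]
    ext i j
    fin_cases i <;> fin_cases j <;>
      simp [g, Matrix.mul_apply, Fin.sum_univ_two] <;> field_simp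
  · have hs : s ≠ 0 := by rintro rfl; simp at hcs; exact hc hcs
    obtain ⟨N, hN, hφN⟩ := hn (1 / s) (one_div_ne_zero hs)
    let g : SL(2, F) := ⟨!![s, 1; -1 / 2, 1 / (2 * s)], by
      rw [Matrix.det_fin_two_of]
      field_simp
      ring⟩
    refine ⟨φ g, hgrp g, ?_⟩
    have hg : (flipHom hc g : Matrix (Fin 2) (Fin 2) F) =
        !![1 / (2 * s), -1 / 2 / c; c * 1, s] := rfl
    rw [hconj g N ?_, hφN]
    apply Subtype.ext
    rw [Matrix.SpecialLinearGroup.coe_mul, hN, hg]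
    subst hcs
    ext i j
    fin_cases i <;> fin_cases j <;>
      simp [g, Matrix.mul_apply, Fin.sum_univ_two] <;> field_simp

end H13.F4I
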