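import Cfsg.Agent.H53.RootGroupWeyl

/-!
An involution is conjugate into `N` when `U` has odd order elements only.
-/

set_option autoImplicit false
set_option linter.unusedSectionVars false

open H53 (RootGroupSys)
open H53.RootGroupSys

namespace H13.F4I

variable {G ι R : Type*} [Group G] {S : RootGroupSys G ι R} (hS : S.Axioms)
  (hsep : RootGroupSys.Sep S)
include hS hsep

theorem exists_conj_N [Finite R] (hUH : S.Uplus ⊓ S.H = ⊥)
    (hodd : ∀ p ∈ S.Uplus, ∃ k : ℕ, p ^ (2 * k + 1) = 1) {u : G} (hu : u * u = 1) :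
    ∃ y : G, ∃ m ∈ S.N, ∃ π, S.Acts m π ∧ m * m = 1 ∧ π * π = 1 ∧ y * u * y⁻¹ = m := by
  obtain ⟨b, hb, w, hw, π, hπ, v, hv, rfl⟩ := exists_normal_form hS u
  have hvB : v ∈ S.B := Uplus_le_B (Uinv_le_Uplus π hv)
  have hww : w * w ∈ S.H := by
    have he : b * w * v = v⁻¹ * w⁻¹ * b⁻¹ := by
      rw [eq_inv_of_mul_eq_one_left hu]; group
    have h := coset_unique hS (BN_eq hS hsep) hsep.B_V hsep.U_ne hsep.a_inj (inv_mem hw) hw
      (inv_mem hvB) hb (inv_mem hb) hvB he.symm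
    rwa [inv_inv] at h
  have hππ : π * π = 1 := acts_unique hS hsep (acts_mul hπ hπ) (acts_H hS hww)
  have hb' : v * b ∈ S.B := mul_mem hvB hb
  obtain ⟨p, hp, h, hh, hph⟩ := mem_B hS hb'
  set m := h * w with hm
  have hmN : m ∈ S.N := mul_mem (H_le_N hh) hw
  have hmπ : S.Acts m π := by simpa using acts_mul (acts_H hS hh) hπ
  have hu' : p * m * (p * m) = 1 := by
    have e : p * m = v * (b * w * v) * v⁻¹ := by
      rw [hm, ← mul_assoc, ← hph]; group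
    rw [e, show v * (b * w * v) * v⁻¹ * (v * (b * w * v) * v⁻¹) =
      v * ((b * w * v) * (b * w * v)) * v⁻¹ by group, hu, mul_one, mul_inv_cancel]
  have hmm : m * m ∈ S.H := by
    refine mem_H_of_acts_one hS hsep (mul_mem hmN hmN) ?_
    have := acts_mul hmπ hmπ
    rwa [hππ] at this
  have hmp : m * p * m⁻¹ = p⁻¹ * (m * m)⁻¹ := by
    have : p * (m * p * m⁻¹) * (m * m) = 1 := by rw [← hu']; simp [mul_assoc]
    calc m * p * m⁻¹ = p⁻¹ * (p * (m * p * m⁻¹) * (m * m)) * (m * m)⁻¹ := by group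
      _ = _ := by rw [this, mul_one]
  obtain ⟨p1, hp1, q, hq, hpq, hmp1⟩ := Uplus_factor hS hmπ hp
  have hq1 : q = 1 := by
    have hmem : m * q * m⁻¹ ∈ S.B ⊓ S.Uminus := by
      refine Subgroup.mem_inf.2 ⟨?_, conj_Uinv hmπ hq⟩
      have e : m * q * m⁻¹ = (m * p1 * m⁻¹)⁻¹ * (m * p * m⁻¹) := by rw [hpq]; group
      rw [e, hmp]
      exact mul_mem (inv_mem (Uplus_le_B hmp1))
        (mul_mem (inv_mem (Uplus_le_B hp)) (inv_mem (H_le_B hmm)))
    rw [hsep.B_V, Subgroup.mem_bot, conj_eq_one_iff] at hmem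
    exact hmem
  rw [hq1, mul_one] at hpq
  subst hpq
  have hm1 : m * m = 1 := by
    have h1 : m * m ∈ S.Uplus ⊓ S.H := by
      refine Subgroup.mem_inf.2 ⟨?_, hmm⟩
      have e : m * m = (p * (m * p * m⁻¹))⁻¹ := by rw [hmp]; simp [mul_assoc]
      rw [e]
      exact inv_mem (mul_mem hp hmp1)
    rw [hUH, Subgroup.mem_bot] at h1
    exact h1
  have hinv : ∀ j : ℕ, m * p ^ j * m⁻¹ = (p ^ j)⁻¹ := by
    intro j
    rw [← conj_pow, hmp, hm1, inv_one, mul_one, inv_pow]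
  obtain ⟨k, hk⟩ := hodd p hp
  refine ⟨p ^ k * v, m, hmN, π, hmπ, hm1, hππ, ?_⟩
  have e : p ^ k * (p * m) * (p ^ k)⁻¹ = p ^ (2 * k + 1) * m := by
    have h1 := hinv k
    calc p ^ k * (p * m) * (p ^ k)⁻¹ = p ^ k * p * (m * (p ^ k) * m⁻¹)⁻¹ * m := by group
      _ = p ^ k * p * p ^ k * m := by rw [h1, inv_inv]
      _ = _ := by rw [← pow_succ, ← pow_add]; ring_nf
  calc p ^ k * v * (b * w * v) * (p ^ k * v)⁻¹ = p ^ k * ((v * b) * w) * (p ^ k)⁻¹ := by group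
    _ = p ^ k * (p * m) * (p ^ k)⁻¹ := by rw [hph, hm, mul_assoc p]
    _ = m := by rw [e, hk, one_mul]

end H13.F4I
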