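import Cfsg.Agent.H13.F4I.Reduce

/-!
The involutions of the torus and the orders of their centralisers.
-/

set_option autoImplicit false
set_option linter.unusedSectionVars false
set_option maxRecDepth 10000

open Cfsg.Lie
open H53.RootGroupSys

namespace H13.F4I

variable {F : Type*} [Field F]

/-- The value of torus parameters at a root. -/
def chi (c : Fin chevF4.rank → Fˣ) (r : ℕ) : Fˣ :=
  ∏ i : Fin chevF4.rank, c i ^ chevF4.cartan i.val r

/-- The sign vector of a number. -/
def sgn (v : ℕ) (i : Fin chevF4.rank) : Fˣ := (-1) ^ (v / 2 ^ i.val % 2)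

theorem prod_zpow_sum {ι : Type*} (s : Finset ι) (a : Fˣ) (f : ι → ℤ) :
    ∏ i ∈ s, a ^ f i = a ^ ∑ i ∈ s, f i := by
  classical
  induction s using Finset.induction_on with
  | empty => simp
  | insert x s hx ih => rw [Finset.sum_insert hx, Finset.prod_insert hx, zpow_add, ih]

theorem chi_sgn {v r : ℕ} (hv : v < 16) (hr : r < 48) :
    chi (F := F) (sgn v) r = if evn v r then 1 else -1 := by
  have h := evn_ok
  simp only [evnOK, beq_iff_eq, List.all_eq_true, List.mem_range] at h
  have h' := h v hv r hr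
  set S := ((List.range 4).map fun i => ((v / 2 ^ i % 2 : ℕ) : ℤ) * chevF4.cartan i r).sum with hS
  have hc : chi (F := F) (sgn v) r = (-1) ^ S := by
    rw [chi, hS]
    simp only [sgn, ← zpow_natCast, ← zpow_mul]
    rw [prod_zpow_sum]
    congr 1
  rw [hc, h']
  by_cases hp : S % 2 = 0
  · simp [hp, (Int.even_iff.2 hp).neg_one_zpow]
  · simp [hp, (Int.not_even_iff_odd.1 fun he => hp (Int.even_iff.1 he)).neg_one_zpow]

/-- The torus element of a sign vector. -/
noncomputable def tv (v : ℕ) : ↥(chevF4.group F) :=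
  ⟨H52.torus chevF4 (sgn v), CC.hC.diag_le_group (by
    rw [CC.hC.diagonalSubgroup_eq]; exact ⟨_, rfl⟩)⟩

theorem mem_H_iff (g : ↥(chevF4.group F)) :
    g ∈ (H53.grpSys CC.W F).H ↔ ∃ c, (g : GL chevF4.Idx F) = H52.torus chevF4 c := by
  rw [← H53.mem_diag_iff CC.hC CC.W, CC.hC.diagonalSubgroup_eq]
  exact ⟨fun ⟨c, hc⟩ => ⟨c, hc.symm⟩, fun ⟨c, hc⟩ => ⟨c, hc.symm⟩⟩

theorem tv_mem (v : ℕ) : tv (F := F) v ∈ (H53.grpSys CC.W F).H := (mem_H_iff _).2 ⟨_, rfl⟩

theorem tv_conj {v : ℕ} (hv : v < 16) (r : Fin chevF4.nroots) (t : F) :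
    (tv (F := F) v : GL chevF4.Idx F) * H52.rt chevF4 r.val t * (tv (F := F) v : GL chevF4.Idx F)⁻¹ =
      H52.rt chevF4 r.val ((((if evn v r.val then 1 else -1 : Fˣ)) : F) * t) := by
  rw [← chi_sgn hv (lt48 r)]
  exact CC.hC.torus_conj_rt _ r.isLt t

theorem torus_ext {c d : Fin chevF4.rank → Fˣ}
    (h : ∀ r : Fin chevF4.nroots, chi c r.val = chi d r.val) :
    H52.torus chevF4 c = H52.torus chevF4 d :=
  H52.dgR_congr fun s hs => h ⟨s, hs⟩

/-- Elements of the torus are determined by their action on the root subgroups. -/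
theorem H_ext {g g' : ↥(chevF4.group F)} (hg : g ∈ (H53.grpSys CC.W F).H)
    (hg' : g' ∈ (H53.grpSys CC.W F).H)
    (h : ∀ r : Fin chevF4.nroots,
      (g : GL chevF4.Idx F) * H52.rt chevF4 r.val (1 : F) * (g : GL chevF4.Idx F)⁻¹ =
        (g' : GL chevF4.Idx F) * H52.rt chevF4 r.val (1 : F) * (g' : GL chevF4.Idx F)⁻¹) :
    g = g' := by
  obtain ⟨c, hc⟩ := (mem_H_iff g).1 hg
  obtain ⟨d, hd⟩ := (mem_H_iff g').1 hg'
  refine Subtype.ext ?_
  rw [hc, hd]
  refine torus_ext fun r => ?_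
  have h1 := h r
  rw [hc, hd, CC.hC.torus_conj_rt _ r.isLt, CC.hC.torus_conj_rt _ r.isLt] at h1
  have h2 := CC.hC.rt_injective r.isLt h1
  rw [mul_one, mul_one] at h2
  exact Units.ext h2

theorem one_ne_neg_one (h2 : (2 : F) ≠ 0) : (1 : Fˣ) ≠ -1 := fun h => h2 (by
  have := congrArg (fun u : Fˣ => (u : F)) h
  simp only [Units.val_one, Units.val_neg] at this
  linear_combination this)

/-- An element of `N` acting by `π` moves `tv v` to `tv v'` iff `π` respects the parities. -/
theorem conj_tv (h2 : (2 : F) ≠ 0) {v v' : ℕ} (hv : v < 16) (hv' : v' < 16)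
    {n : ↥(chevF4.group F)} (hn : n ∈ (H53.grpSys CC.W F).N)
    {π : Equiv.Perm (Fin chevF4.nroots)} (hπ : (H53.grpSys CC.W F).Acts n π) {k : ℕ}
    (hk : Rep π k) :
    n * tv v * n⁻¹ = tv v' ↔ ∀ j < 48, evn v' (img k j) = evn v j := by
  obtain hlin := lin_of_acts hn hπ
  have key : ∀ r : Fin chevF4.nroots, ∀ t : F,
      ((n * tv v * n⁻¹ : ↥(chevF4.group F)) : GL chevF4.Idx F) * H52.rt chevF4 (π r).val t *
        ((n * tv v * n⁻¹ : ↥(chevF4.group F)) : GL chevF4.Idx F)⁻¹ =
      H52.rt chevF4 (π r).val ((((if evn v r.val then 1 else -1 : Fˣ)) : F) * t) := by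
    intro r t
    obtain ⟨c, hc⟩ := hlin r
    have h1 := hc ((c : F)⁻¹ * t)
    rw [← mul_assoc, mul_inv_cancel₀ c.ne_zero, one_mul] at h1
    rw [← h1, Subgroup.coe_mul, Subgroup.coe_mul, Subgroup.coe_inv,
      show ∀ a b x : GL chevF4.Idx F, a * b * a⁻¹ * (a * x * a⁻¹) * (a * b * a⁻¹)⁻¹ =
        a * (b * x * b⁻¹) * a⁻¹ by intros; group, tv_conj hv, hc]
    congr 1
    field_simp
  constructor
  · intro he j hj
    have h := key (rootF j hj) 1
    rw [he, tv_conj hv'] at h
    have h' := CC.hC.rt_injective (π (rootF j hj)).isLt h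
    rw [mul_one, mul_one, hk.2] at h'
    have h'' := Units.ext (α := F) h'
    change evn v' (img k (rootF j hj).val) = evn v (rootF j hj).val
    cases h1 : evn v' (img k (rootF j hj).val) <;> cases h3 : evn v (rootF j hj).val <;>
      simp [h1, h3, one_ne_neg_one h2, (one_ne_neg_one h2).symm] at h'' ⊢
  · intro hall
    have hH : n * tv v * n⁻¹ ∈ (H53.grpSys CC.W F).H := by
      refine mem_H_of_acts_one CC.axioms CC.sep
        (mul_mem (mul_mem hn (H_le_N (tv_mem v))) (inv_mem hn)) ?_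
      simpa using acts_mul (acts_mul hπ (acts_H CC.axioms (tv_mem v))) (acts_inv hπ)
    refine H_ext hH (tv_mem v') fun r => ?_
    obtain ⟨s, rfl⟩ := π.surjective r
    rw [key, tv_conj hv', hk.2, hall _ (lt48 s)]

/-! ### The involutions. -/

theorem tv_ne_one (h2 : (2 : F) ≠ 0) {v j : ℕ} (hv : v < 16) (hj : j < 48)
    (he : evn v j = false) : tv (F := F) v ≠ 1 := by
  intro h
  have h1 := tv_conj (F := F) hv (rootF j hj) 1
  rw [h, OneMemClass.coe_one, one_mul, inv_one, mul_one] at h1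
  have h3 := CC.hC.rt_injective (rootF j hj).isLt h1
  change (1 : F) = _ * 1 at h3
  rw [show (rootF j hj).val = j from rfl, he] at h3
  simp only [Bool.false_eq_true, if_false, Units.val_neg, Units.val_one] at h3
  exact h2 (by linear_combination h3)

theorem tv_sq (v : ℕ) : tv (F := F) v * tv v = 1 := by
  apply Subtype.ext
  show H52.torus chevF4 (sgn v) * H52.torus chevF4 (sgn v) = 1
  rw [← map_mul, ← map_one (H52.torus chevF4)]
  congr 1
  funext i
  rw [Pi.mul_apply, Pi.one_apply, sgn, ← pow_add, ← two_mul, pow_mul, neg_one_sq, one_pow]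

variable [Fintype F]

theorem divisors_one (i : Fin chevF4.rank) : (![1, 1, 1, 1] : Fin 4 → ℕ) i = 1 :=
  (show ∀ j : Fin 4, (![1, 1, 1, 1] : Fin 4 → ℕ) j = 1 by decide) i

theorem torus_injective : Function.Injective (H52.torus chevF4 (F := F)) := by
  classical
  have h := CC.hC.card_diagonal (F := F) H52.divisorsF4
  rw [CC.hC.diagonalSubgroup_eq] at h
  let f : (Fin chevF4.rank → Fˣ) → ↥((H52.torus chevF4 (F := F)).range) :=
    (H52.torus chevF4 (F := F)).rangeRestrict
  have hf : Function.Bijective f := by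
    have : Fintype ↥((H52.torus chevF4 (F := F)).range) := Fintype.ofFinite _
    refine (Fintype.bijective_iff_surjective_and_card f).2
      ⟨(H52.torus chevF4 (F := F)).rangeRestrict_surjective, ?_⟩
    rw [← Nat.card_eq_fintype_card, ← Nat.card_eq_fintype_card, Nat.card_pi, Nat.card_units,
      Nat.card_eq_fintype_card]
    simp only [Finset.prod_const, Finset.card_univ, Fintype.card_fin]
    rw [← h]
    have hd := divisors_one
    rw [Finset.prod_eq_one fun i _ => by rw [hd]; exact Nat.gcd_one_right _, one_mul]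
  exact fun a b hab => hf.1 (Subtype.ext hab)

/-- An involution of the torus is one of the `tv v`. -/
theorem exists_tv {g : ↥(chevF4.group F)} (hg : g ∈ (H53.grpSys CC.W F).H) (hg1 : g * g = 1) :
    ∃ v < 16, g = tv v := by
  obtain ⟨c, hc⟩ := (mem_H_iff g).1 hg
  have hcc : c * c = 1 := torus_injective (by
    rw [map_mul, map_one, ← hc]; exact congrArg Subtype.val hg1)
  have hv : ∀ i, c i = 1 ∨ c i = -1 := fun i => by
    have h := congrArg Units.val (congrFun hcc i)
    rw [Pi.mul_apply, Pi.one_apply, Units.val_mul, Units.val_one] at h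
    rcases mul_self_eq_one_iff.1 h with h | h
    · exact Or.inl (Units.ext h)
    · exact Or.inr (Units.ext (by rw [h]; rfl))
  classical
  let b : Fin 4 → Fin 2 := fun i =>
    if c ⟨i.val, lt_of_lt_of_le i.isLt rank_eq.ge⟩ = 1 then 0 else 1
  have hdig : ∀ b : Fin 4 → Fin 2,
      (b 0).val + 2 * (b 1).val + 4 * (b 2).val + 8 * (b 3).val < 16 ∧ ∀ i : Fin 4,
      ((b 0).val + 2 * (b 1).val + 4 * (b 2).val + 8 * (b 3).val) / 2 ^ i.val % 2 = (b i).val := by
    decide +kernel
  refine ⟨_, (hdig b).1, Subtype.ext ?_⟩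
  rw [hc]
  show H52.torus chevF4 c = H52.torus chevF4 (sgn _)
  congr 1
  funext i
  rw [sgn, show i.val = (⟨i.val, lt4 i⟩ : Fin 4).val from rfl, (hdig b).2]
  show c i = (-1 : Fˣ) ^ ((b ⟨i.val, lt4 i⟩).val)
  by_cases h : c i = 1
  · have e : b ⟨i.val, lt4 i⟩ = 0 := if_pos h
    simp [e, h]
  · have e : b ⟨i.val, lt4 i⟩ = 1 := if_neg h
    simp [e, (hv i).resolve_left h]

/-- Every involution is conjugate to one of the two representatives. -/
theorem exists_conj_rep (h2 : (2 : F) ≠ 0) {u : ↥(chevF4.group F)} (hu : u * u = 1)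
    (hu1 : u ≠ 1) : IsConj u (tv vS) ∨ IsConj u (tv vT) := by
  obtain ⟨y, hy⟩ := exists_conj_H h2 hu
  obtain ⟨v, hv, he⟩ := exists_tv hy (by
    rw [show y * u * y⁻¹ * (y * u * y⁻¹) = y * (u * u) * y⁻¹ by group, hu, mul_one,
      mul_inv_cancel])
  have hv0 : v ≠ 0 := by
    rintro rfl
    apply hu1
    have h0 : tv (F := F) 0 = 1 := Subtype.ext (by
      show H52.torus chevF4 (sgn 0) = 1
      rw [← map_one (H52.torus chevF4)]
      congr 1
      funext i
      simp [sgn])
    rw [h0, conj_eq_one_iff] at he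
    exact he
  have htab := toRep_ok
  simp only [toRepOK, Bool.and_eq_true, Bool.or_eq_true, beq_iff_eq, List.all_eq_true,
    List.mem_range, List.mem_range'_1, decide_eq_true_eq] at htab
  obtain ⟨hk, hrep⟩ := htab v ⟨by omega, by omega⟩
  obtain ⟨π, hπW, hπk⟩ := exists_perm hk
  obtain ⟨L, rfl⟩ := CC.exists_wperm hπW
  have main : ∀ v' < 16, (∀ j < 48, evn v' (img (toRep.getD v 0) j) = evn v j) →
      IsConj u (tv (F := F) v') := by
    intro v' hv' hall
    refine isConj_iff.2 ⟨CC.nwG L * y, ?_⟩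
    rw [← (conj_tv h2 hv hv' (CC.nwG_mem_N L) (CC.nwG_acts L) hπk).2 hall, ← he]
    group
  rcases hrep with h | h
  · exact Or.inl (main _ (by decide) h)
  · exact Or.inr (main _ (by decide) h)

/-! ### Centralisers. -/

/-- The ordered product over the roots with the given parameters, zero off `P`. -/
noncomputable def uOf (P : Finset (Fin chevF4.nroots)) (f : P → F) : GL chevF4.Idx F :=
  H52.upProd chevF4 (chevF4.nroots / 2) fun r =>
    if h : r < chevF4.nroots then (if h' : (⟨r, h⟩ : Fin chevF4.nroots) ∈ P then f ⟨_, h'⟩ else 0)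
    else 0

theorem uOf_injective {P : Finset (Fin chevF4.nroots)}
    (hP : ∀ r ∈ P, chevF4.nroots / 2 ≤ r.val) : Function.Injective (uOf (F := F) P) := by
  intro f f' h
  funext ⟨r, hr⟩
  have := CC.hC.upProd_injective le_rfl h r.val (hP r hr) r.isLt
  simpa [hr] using this

theorem uOf_mem {P : Finset (Fin chevF4.nroots)} (S : Subgroup ↥(chevF4.group F))
    (hS : ∀ r ∈ P, ∀ t : F, ∀ g : ↥(chevF4.group F),
      (g : GL chevF4.Idx F) = H52.rt chevF4 r.val t → g ∈ S) (f : P → F) :
    ∃ g ∈ S, (g : GL chevF4.Idx F) = uOf P f := by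
  suffices h : uOf P f ∈ S.map (chevF4.group F).subtype by
    obtain ⟨g, hg, he⟩ := h; exact ⟨g, hg, he⟩
  rw [uOf, H52.upProd, H52.wordRt]
  refine list_prod_mem fun x hx => ?_
  simp only [List.map_map, List.mem_map, Function.comp_apply] at hx
  obtain ⟨r, hr, rfl⟩ := hx
  rw [List.mem_range'_1] at hr
  have hlt : r < chevF4.nroots := by omega
  by_cases h' : (⟨r, hlt⟩ : Fin chevF4.nroots) ∈ P
  · exact ⟨⟨_, CC.rt_mem_group r _⟩, hS _ h' _ _ rfl, rfl⟩
  · rw [dif_pos hlt, dif_neg h', CC.hC.rt_zero]; exact one_mem _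

theorem conj_upProd (g : GL chevF4.Idx F) (χ : ℕ → F)
    (h : ∀ r < chevF4.nroots, ∀ t : F, g * H52.rt chevF4 r t * g⁻¹ = H52.rt chevF4 r (χ r * t))
    (k : ℕ) (f : ℕ → F) :
    g * H52.upProd chevF4 k f * g⁻¹ = H52.upProd chevF4 k fun r => χ r * f r := by
  rw [H52.upProd, H52.upProd, H52.wordRt, H52.wordRt, ← MulAut.conj_apply, map_list_prod,
    List.map_map, List.map_map, List.map_map]
  refine congrArg List.prod (List.map_congr_left fun r hr => ?_)
  rw [List.mem_range'_1] at hr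
  exact h r (by omega) _

/-- The fixed part of a set of positive roots. -/
def fixPart (v : ℕ) (P : Finset (Fin chevF4.nroots)) : Finset (Fin chevF4.nroots) :=
  P.filter fun r => evn v r.val = true

/-- The positive roots made negative by `π`. -/
def invRoots (π : Equiv.Perm (Fin chevF4.nroots)) : Finset (Fin chevF4.nroots) :=
  Finset.univ.filter fun r => chevF4.nroots / 2 ≤ r.val ∧ ¬ chevF4.nroots / 2 ≤ (π r).val

/-- The positive roots. -/
def posRts : Finset (Fin chevF4.nroots) :=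
  Finset.univ.filter fun r => chevF4.nroots / 2 ≤ r.val

theorem uOf_mem_Uinv (π : Equiv.Perm (Fin chevF4.nroots)) (f : invRoots π → F) :
    ∃ g ∈ (H53.grpSys CC.W F).Uinv π, (g : GL chevF4.Idx F) = uOf (invRoots π) f := by
  let K : H52.BNData chevF4 H52.tablesF4 := ⟨H52.checkedF4, CC.hok, CC.W⟩
  refine uOf_mem _ (fun r hr t g hg => ?_) f
  simp only [invRoots, Finset.mem_filter, Finset.mem_univ, true_and] at hr
  exact Subgroup.subset_closure ⟨r, hr.1, hr.2, K.mem_U_iff.2 ⟨t, hg⟩⟩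

theorem Uinv_eq {n : ↥(chevF4.group F)} {π : Equiv.Perm (Fin chevF4.nroots)}
    (hπ : (H53.grpSys CC.W F).Acts n π) {g : ↥(chevF4.group F)}
    (hg : g ∈ (H53.grpSys CC.W F).Uinv π) :
    ∃ f : invRoots π → F, (g : GL chevF4.Idx F) = uOf (invRoots π) f := by
  classical
  let K : H52.BNData chevF4 H52.tablesF4 := ⟨H52.checkedF4, CC.hok, CC.W⟩
  choose Φ hΦ hΦ' using uOf_mem_Uinv (F := F) π
  let Ψ : (invRoots π → F) → ↥((H53.grpSys CC.W F).Uinv π) := fun f => ⟨Φ f, hΦ f⟩
  have hinj : Function.Injective Ψ := fun a b h => by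
    refine uOf_injective (fun r hr => (Finset.mem_filter.1 hr).2.1) ?_
    rw [← hΦ' a, ← hΦ' b]
    exact congrArg (fun z : ↥((H53.grpSys CC.W F).Uinv π) =>
      ((z.1 : ↥(chevF4.group F)) : GL chevF4.Idx F)) h
  have hcard : Nat.card ↥((H53.grpSys CC.W F).Uinv π) = Nat.card (invRoots π → F) := by
    rw [H52.card_Uinv CC.axioms CC.sep (fun r => K.card_U r) _ n π hπ rfl, Nat.card_fun,
      Nat.card_eq_fintype_card (α := F)]
    congr 1
    rw [H52.invCard, Nat.card_eq_fintype_card, Nat.card_eq_fintype_card,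
      Fintype.card_subtype, Fintype.card_coe]
    congr 1
    ext r
    simp only [invRoots, Finset.mem_filter, Finset.mem_univ, true_and]
    rfl
  have hbij : Function.Bijective Ψ :=
    (Fintype.bijective_iff_injective_and_card _).2 ⟨hinj, by
      rw [← Nat.card_eq_fintype_card, ← Nat.card_eq_fintype_card, hcard]⟩
  obtain ⟨f, hf⟩ := hbij.2 ⟨g, hg⟩
  exact ⟨f, by rw [← hΦ' f]; exact (congrArg (fun z : ↥((H53.grpSys CC.W F).Uinv π) =>
    ((z.1 : ↥(chevF4.group F)) : GL chevF4.Idx F)) hf).symm⟩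

theorem card_fix (h2 : (2 : F) ≠ 0) {v : ℕ} (hv : v < 16) (P : Finset (Fin chevF4.nroots))
    (hP : ∀ r ∈ P, chevF4.nroots / 2 ≤ r.val) (S : Subgroup ↥(chevF4.group F))
    (hsub : ∀ f : P → F, ∃ g ∈ S, (g : GL chevF4.Idx F) = uOf P f)
    (hsup : ∀ g ∈ S, ∃ f : P → F, (g : GL chevF4.Idx F) = uOf P f) :
    Nat.card {g : S // tv (F := F) v * (g : ↥(chevF4.group F)) * (tv (F := F) v)⁻¹ = g} =
      Fintype.card F ^ (fixPart v P).card := by
  classical
  choose Φ hΦ hΦ' using hsub
  let ext' : (fixPart v P → F) → (P → F) := fun f r =>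
    if h : r.1 ∈ fixPart v P then f ⟨r.1, h⟩ else 0
  have hconj : ∀ f : P → F, ((tv v * Φ f * (tv v)⁻¹ : ↥(chevF4.group F)) : GL chevF4.Idx F) =
      uOf P fun r => ((if evn v r.1.val then 1 else -1 : Fˣ) : F) * f r := by
    intro f
    rw [Subgroup.coe_mul, Subgroup.coe_mul, Subgroup.coe_inv, hΦ', uOf, uOf,
      conj_upProd _ (fun r => ((if evn v r then 1 else -1 : Fˣ) : F))
        (fun r hr t => tv_conj hv ⟨r, hr⟩ t)]
    refine H52.Checked.upProd_congr fun r _ hr => ?_
    rw [dif_pos hr, dif_pos hr]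
    split <;> simp
  have hfix : ∀ f : P → F, tv v * Φ f * (tv v)⁻¹ = Φ f ↔
      ∀ r : P, r.1 ∉ fixPart v P → f r = 0 := by
    intro f
    constructor
    · intro h r hr
      have h1 : ((tv v * Φ f * (tv v)⁻¹ : ↥(chevF4.group F)) : GL chevF4.Idx F) = Φ f :=
        congrArg Subtype.val h
      rw [hconj, hΦ'] at h1
      have h3 := congrFun (uOf_injective hP h1) r
      have he : evn v r.1.val = false := by
        simpa [fixPart, r.2] using hr
      simp only [he, Bool.false_eq_true, if_false, Units.val_neg, Units.val_one] at h3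
      have : (2 : F) * f r = 0 := by linear_combination -h3
      exact (mul_eq_zero.1 this).resolve_left h2
    · intro h
      apply Subtype.ext
      rw [hconj, hΦ']
      congr 1
      funext r
      by_cases hr : r.1 ∈ fixPart v P
      · rw [(Finset.mem_filter.1 hr).2, if_pos rfl, Units.val_one, one_mul]
      · rw [h r hr, mul_zero]
  let Ψ : (fixPart v P → F) → {g : S // tv (F := F) v * (g : ↥(chevF4.group F)) * (tv (F := F) v)⁻¹ = g} :=
    fun f => ⟨⟨Φ (ext' f), hΦ _⟩, (hfix _).2 fun r hr => dif_neg hr⟩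
  have hbij : Function.Bijective Ψ := by
    constructor
    · intro a b h
      have h1 : (Φ (ext' a) : GL chevF4.Idx F) = Φ (ext' b) :=
        congrArg (fun z : {g : S // tv (F := F) v * (g : ↥(chevF4.group F)) * (tv (F := F) v)⁻¹ = g} =>
          ((z.1.1 : ↥(chevF4.group F)) : GL chevF4.Idx F)) h
      rw [hΦ', hΦ'] at h1
      have h3 := uOf_injective hP h1
      funext r
      have := congrFun h3 ⟨r.1, (Finset.mem_filter.1 r.2).1⟩
      simpa [ext', r.2] using this
    · rintro ⟨⟨g, hg⟩, he⟩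
      obtain ⟨f, hf⟩ := hsup g hg
      have hgf : Φ f = g := Subtype.ext (by rw [hΦ', hf])
      refine ⟨fun r => f ⟨r.1, (Finset.mem_filter.1 r.2).1⟩, Subtype.ext (Subtype.ext ?_)⟩
      show Φ _ = g
      rw [← hgf]
      congr 1
      funext r
      by_cases hr : r.1 ∈ fixPart v P
      · simp [ext', hr]
      · simp only [ext', dif_neg hr]
        exact ((hfix f).1 (by rw [hgf]; exact he) r hr).symm
  rw [← Nat.card_eq_of_bijective Ψ hbij, Nat.card_fun, Nat.card_eq_fintype_card (α := F),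
    Nat.card_eq_fintype_card, Fintype.card_coe]

end H13.F4I
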