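import Cfsg.Agent.H13.F4I.Data
import Cfsg.Agent.H52.DataF4
import Cfsg.Agent.H52.Order
import Cfsg.Agent.H54.ChevCtx

/-!
Kernel verification of the tables of the Weyl group of type F4.
-/

set_option autoImplicit false
set_option maxRecDepth 100000

namespace H13.F4I

open Cfsg.Lie H52

/-- The image of the root `j` under the element `k`. -/
def img (k j : ℕ) : ℕ :=
  if 24 ≤ j then (rows k >>> (6 * (j - 24))) % 64 else 47 - (rows k >>> (6 * (23 - j))) % 64

/-- The action of a fundamental reflection. -/
def act (i j : ℕ) : ℕ := (H53.f4WeylAct.get j).getD i 0

/-- The fundamental roots. -/
def simp' (i : ℕ) : ℕ := [33, 27, 25, 24].getD i 0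

/-- A code of an element through its images. -/
def enc (k : ℕ) : ℕ := (List.range 24).foldr (fun j acc => img k (24 + j) + 64 * acc) 0

/-- The number of inverted positive roots. -/
def ninv (k : ℕ) : ℕ := ((List.range' 24 24).filter fun j => decide (img k j < 24)).length

/-- The number of roots sent to their negatives. -/
def mcnt (k : ℕ) : ℕ := ((List.range 48).filter fun j => img k j == 47 - j).length

/-- The element is an involution. -/
def invol (k : ℕ) : Bool := (List.range 48).all fun j => img k (img k j) == j

/-- The table of successors. -/
def succOK : Bool :=
  (List.range 1152).all fun k => (List.range 4).all fun i =>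
    decide ((succ k).getD i 0 < 1152) &&
      (List.range 48).all fun j => img ((succ k).getD i 0) j == act i (img k j)

/-- Every element but the identity has a descent. -/
def descOK : Bool :=
  (List.range 1152).all fun k => k == one ||
    (List.range 4).any fun i => decide (ninv ((succ k).getD i 0) < ninv k)

/-- The identity. -/
def oneOK : Bool := decide (one < 1152) && (List.range 48).all fun j => img one j == j

/-- The images are roots. -/
def imgOK : Bool := (List.range 1152).all fun k => (List.range 48).all fun j => decide (img k j < 48)

/-- The codes increase. -/
def encOK : Bool := (List.range 1151).all fun k => decide (enc k < enc (k + 1))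

/-- The reflections. -/
def reflOK : Bool :=
  ((List.range 48).all fun s => decide (refl.getD s 0 < 1152)) &&
  ((List.range 4).all fun i => (List.range 48).all fun j => img (refl.getD (simp' i) 0) j == act i j) &&
  (List.range 4).all fun i => (List.range 48).all fun s => (List.range 48).all fun j =>
    img (refl.getD (act i s) 0) (act i j) == act i (img (refl.getD s 0) j)

/-- The target of a reduction is obtained by the reflection in `p` and has fewer inverted pairs. -/
def tgtOK (k p t : ℕ) : Bool :=
  decide (t < 1152) && decide (mcnt t < mcnt k) &&
    (List.range 48).all fun j => img t j == img (refl.getD p 0) (img k j)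

/-- First kind: two inverted roots with odd pairing. -/
def certA (k r s t : ℕ) : Bool :=
  decide (r < 48) && decide (s < 48) && img k r == 47 - r && img k s == 47 - s &&
    pairInt chevF4 r (47 - s) % 2 == 1 && tgtOK k s t

/-- Second kind: `s - r` is the image of `s`. -/
def certB (k r s u t : ℕ) (m : ℤ) : Bool :=
  decide (r < 48) && decide (s < 48) && decide (u < 48) && img k r == 47 - r && img k s == u &&
    img k u == s && chevF4.commTerms r u == [(s, m, 1, 1)] &&
    chevF4.commTerms (47 - r) s == [(u, m, 1, 1)] &&
    (chevF4.commTerms r s).isEmpty && (chevF4.commTerms (47 - r) u).isEmpty &&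
    r != s && r != u && 47 - r != s && 47 - r != u && tgtOK k r t

/-- The certificate of an element. -/
def certAt (k : ℕ) : Bool :=
  match cert k with
  | [0, r, s, _, t, _] => certA k r s t
  | [1, r, s, u, t, b] => certB k r s u t (if b = 1 then 1 else -1)
  | _ => false

/-- All certificates. -/
def certOK : Bool := (List.range 1152).all fun k => k == one || !invol k || certAt k

/-- The parity of the value of a sign vector at a root. -/
def evn (v j : ℕ) : Bool := (evnT.getD v 0 >>> j) % 2 == 1

/-- The table of parities is correct. -/
def evnOK : Bool :=
  (List.range 16).all fun v => (List.range 48).all fun j => evn v j ==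
    (((List.range 4).map fun i => ((v / 2 ^ i % 2 : ℕ) : ℤ) * chevF4.cartan i j).sum % 2 == 0)

/-- The first representative. -/
def vS : ℕ := 2
/-- The second representative. -/
def vT : ℕ := 8

/-- Moving the sign vectors to the representatives. -/
def toRepOK : Bool :=
  (List.range' 1 15).all fun v => decide (toRep.getD v 0 < 1152) &&
    ((List.range 48).all (fun j => evn vS (img (toRep.getD v 0) j) == evn v j) ||
      (List.range 48).all (fun j => evn vT (img (toRep.getD v 0) j) == evn v j))

/-- The stabiliser of a sign vector. -/
def stab (v k : ℕ) : Bool := (List.range 48).all fun j => evn v (img k j) == evn v j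

/-- The number of inverted positive roots of even value. -/
def ninvE (v k : ℕ) : ℕ :=
  ((List.range' 24 24).filter fun j => evn v j && decide (img k j < 24)).length

/-- The number of positive roots of even value. -/
def posE (v : ℕ) : ℕ := ((List.range' 24 24).filter fun j => evn v j).length

/-- The exponents of the centraliser in the Weyl group. -/
def stabExp (v : ℕ) : List ℕ :=
  ((List.range 1152).filter fun k => stab v k).map fun k => ninvE v k

/-- The numbers of occurrences of the exponents. -/
def cntPoly (l : List ℕ) : List ℤ := (List.range 25).map fun j => ((l.count j : ℕ) : ℤ)

theorem succ_ok : succOK = true := by decide +kernel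
theorem desc_ok : descOK = true := by decide +kernel
theorem one_ok : oneOK = true := by decide +kernel
theorem img_ok : imgOK = true := by decide +kernel
theorem enc_ok : encOK = true := by decide +kernel
theorem refl_ok : reflOK = true := by decide +kernel
theorem cert_ok : certOK = true := by decide +kernel
theorem evn_ok : evnOK = true := by decide +kernel
theorem toRep_ok : toRepOK = true := by decide +kernel

theorem exp_s : (stabExp vS == expS) = true := by decide +kernel

theorem exp_t : (stabExp vT == expT) = true := by decide +kernel

theorem poly_s : (decide (posE vS = 16) && expS.all (fun e => decide (e < 25)) &&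
    pEq (pProd (List.replicate 4 [-1, 1] ++ [cntPoly expS])) (pProd ([2, 4, 6, 8].map pSubOne))) =
    true := by decide +kernel

theorem poly_t : (decide (posE vT = 10) && expT.all (fun e => decide (e < 25)) &&
    pEq (pProd (List.replicate 4 [-1, 1] ++ [cntPoly expT])) (pProd ([2, 2, 4, 6].map pSubOne))) =
    true := by decide +kernel

theorem roots_ok : (chevF4.nroots == 48 && chevF4.rank == 4 &&
    ((List.range 4).all fun i => chevF4.simple i == simp' i) &&
    ((List.range 4).all fun i => (List.range 48).all fun j => chevF4.reflectRoot i j == act i j) &&
    (List.range 48).all fun j => chevF4.neg j == 47 - j) = true := by decide +kernel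

end H13.F4I
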