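import Cfsg.Agent.H13.F4I.Cent

/-!
The two classes of involutions of F4 in odd characteristic.
-/

set_option autoImplicit false
set_option linter.unusedSectionVars false
set_option maxRecDepth 10000

open Cfsg.Lie
open H53.RootGroupSys

namespace H13.F4I

theorem range'_mem {j : ℕ} : j ∈ List.range' 24 24 ↔ 24 ≤ j ∧ j < 48 := List.mem_range'_1

theorem half_eq : chevF4.nroots / 2 = 24 := by rw [nroots_eq]

theorem card_filter_roots (p : ℕ → Bool) :
    (Finset.univ.filter fun r : Fin chevF4.nroots =>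
      chevF4.nroots / 2 ≤ r.val ∧ p r.val = true).card =
      ((List.range' 24 24).filter p).length := by
  rw [← List.toFinset_card_of_nodup ((List.nodup_range' _).filter _)]
  refine Finset.card_bij (fun r _ => r.val) ?_ (fun a _ b _ h => Fin.ext h) ?_
  · intro r hr
    rw [Finset.mem_filter, half_eq] at hr
    rw [List.mem_toFinset, List.mem_filter, range'_mem]
    exact ⟨⟨hr.2.1, lt48 r⟩, hr.2.2⟩
  · intro j hj
    rw [List.mem_toFinset, List.mem_filter, range'_mem] at hj
    refine ⟨rootF j hj.1.2, ?_, rfl⟩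
    rw [Finset.mem_filter, half_eq]
    exact ⟨Finset.mem_univ _, hj.1.1, hj.2⟩

theorem card_fixPart_pos (v : ℕ) : (fixPart v posRts).card = posE v := by
  rw [posE, ← card_filter_roots, fixPart, posRts, Finset.filter_filter]

theorem card_fixPart_inv (v : ℕ) {π : Equiv.Perm (Fin chevF4.nroots)} {k : ℕ} (hk : Rep π k) :
    (fixPart v (invRoots π)).card = ninvE v k := by
  rw [ninvE, ← card_filter_roots, fixPart, invRoots, Finset.filter_filter]
  congr 1
  refine Finset.filter_congr fun r _ => ?_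
  rw [half_eq, hk.2, Bool.and_eq_true, decide_eq_true_eq]
  constructor
  · rintro ⟨⟨h1, h2⟩, h3⟩; exact ⟨h1, h3, not_le.1 h2⟩
  · rintro ⟨h1, h3, h2⟩; exact ⟨⟨h1, not_le.2 h2⟩, h3⟩

theorem sum_cnt {R : Type*} [CommRing R] (x : R) :
    ∀ (N : ℕ) (f : ℕ → ℤ), H52.pEval x ((List.range N).map f) =
      ∑ j ∈ Finset.range N, (f j : R) * x ^ j
  | 0, f => by simp [H52.pEval]
  | N + 1, f => by
    rw [List.range_succ_eq_map, List.map_cons, List.map_map, H52.pEval, sum_cnt x N,
      Finset.sum_range_succ', Finset.mul_sum]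
    simp only [Function.comp_apply, pow_succ, pow_zero, mul_one]
    rw [add_comm]
    congr 1
    exact Finset.sum_congr rfl fun j _ => by ring

theorem sum_pow_eq {R : Type*} [CommRing R] (x : R) (l : List ℕ) (hl : ∀ e ∈ l, e < 25) :
    (l.map fun e => x ^ e).sum = H52.pEval x (cntPoly l) := by
  rw [cntPoly, sum_cnt]
  induction l with
  | nil => simp
  | cons a l ih =>
    have ha : a ∈ Finset.range 25 := Finset.mem_range.2 (hl a List.mem_cons_self)
    rw [List.map_cons, List.sum_cons, ih fun e he => hl e (List.mem_cons_of_mem _ he)]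
    simp only [List.count_cons, Nat.cast_add, Int.cast_add, add_mul, Finset.sum_add_distrib]
    rw [add_comm]
    congr 1
    rw [Finset.sum_eq_single a]
    · simp
    · intro b _ hb; simp [Ne.symm hb]
    · exact fun h => absurd ha h

variable {F : Type*} [Field F] [Fintype F]

theorem mem_posU (g : ↥(chevF4.group F)) (hg : g ∈ (H53.grpSys CC.W F).Uplus) :
    ∃ f : posRts → F, (g : GL chevF4.Idx F) = uOf posRts f := by
  have h := (H53.mem_pos_iff CC.hC CC.W g).2 hg
  rw [CC.hC.posUnipotent_eq] at h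
  obtain ⟨t, ht⟩ := CC.hC.exists_upProd le_rfl h
  refine ⟨fun r => t r.1.val, ht.trans (H52.Checked.upProd_congr fun r hr hlt => ?_)⟩
  have hm : (⟨r, hlt⟩ : Fin chevF4.nroots) ∈ posRts :=
    Finset.mem_filter.2 ⟨Finset.mem_univ _, hr⟩
  rw [dif_pos hlt, dif_pos hm]

theorem uOf_mem_pos (f : posRts → F) :
    ∃ g ∈ (H53.grpSys CC.W F).Uplus, (g : GL chevF4.Idx F) = uOf posRts f := by
  let K : H52.BNData chevF4 H52.tablesF4 := ⟨H52.checkedF4, CC.hok, CC.W⟩
  refine uOf_mem _ (fun r hr t g hg => ?_) f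
  exact U_le_Uplus (Finset.mem_filter.1 hr).2 (K.mem_U_iff.2 ⟨t, hg⟩)

theorem card_cent (h2 : (2 : F) ≠ 0) {v : ℕ} (hv : v < 16) :
    Nat.card (Subgroup.centralizer ({tv (F := F) v} : Set ↥(chevF4.group F))) =
      Fintype.card F ^ posE v * (Fintype.card F - 1) ^ 4 *
        ((stabExp v).map fun e => Fintype.card F ^ e).sum := by
  classical
  set S := H53.grpSys CC.W F with hSdef
  have hA := CC.axioms (F := F)
  have hS := CC.sep (F := F)
  set t := tv (F := F) v with ht
  have htH : t ∈ S.H := tv_mem v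
  have hex : ∀ π : S.W, ∃ w ∈ S.N, S.Acts w π.1 := fun π => by
    obtain ⟨L, hL⟩ := CC.exists_wperm π.2
    exact ⟨CC.nwG L, CC.nwG_mem_N L, hL ▸ CC.nwG_acts L⟩
  choose wr hwN hwA using hex
  let Fx := {π : S.W // wr π * t * (wr π)⁻¹ = t}
  let fU := {u : S.Uplus // t * (u : ↥(chevF4.group F)) * t⁻¹ = u}
  let fV : Fx → Type _ := fun π =>
    {u : S.Uinv π.1.1 // t * (u : ↥(chevF4.group F)) * t⁻¹ = u}
  have hHab : ∀ h ∈ S.H, t * h * t⁻¹ = h := by
    intro h hh
    obtain ⟨c, hc⟩ := (mem_H_iff h).1 hh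
    apply Subtype.ext
    rw [Subgroup.coe_mul, Subgroup.coe_mul, Subgroup.coe_inv, hc, ht]
    show H52.torus chevF4 _ * H52.torus chevF4 c * (H52.torus chevF4 _)⁻¹ = H52.torus chevF4 c
    rw [← map_inv, ← map_mul, ← map_mul, mul_comm (sgn v), mul_inv_cancel_right]
  let f : (Σ π : Fx, fU × ↥S.H × fV π) →
      Subgroup.centralizer ({t} : Set ↥(chevF4.group F)) := fun p =>
    ⟨p.2.1.1.1 * p.2.2.1.1 * wr p.1.1 * p.2.2.2.1.1, by
      rw [Subgroup.mem_centralizer_singleton_iff]
      have h1 := p.2.1.2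
      have h3 := hHab _ p.2.2.1.2
      have h4 := p.2.2.2.2
      have h5 : t * wr p.1.1 * t⁻¹ = wr p.1.1 := by
        have := p.1.2
        rw [mul_inv_eq_iff_eq_mul] at this ⊢
        exact this.symm
      symm
      calc t * (p.2.1.1.1 * p.2.2.1.1 * wr p.1.1 * p.2.2.2.1.1)
          = (t * p.2.1.1.1 * t⁻¹) * (t * p.2.2.1.1 * t⁻¹) * (t * wr p.1.1 * t⁻¹) *
            (t * p.2.2.2.1.1 * t⁻¹) * t := by group
        _ = _ := by rw [h1, h3, h4, h5]⟩
  have hUH : ∀ {u u' h h' : ↥(chevF4.group F)}, u ∈ S.Uplus → u' ∈ S.Uplus → h ∈ S.H →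
      h' ∈ S.H → u * h = u' * h' → u = u' ∧ h = h' := by
    intro u u' h h' hu hu' hh hh' he
    have hx : u'⁻¹ * u = h' * h⁻¹ := by
      rw [inv_mul_eq_iff_eq_mul, ← mul_assoc, eq_mul_inv_iff_mul_eq]; exact he
    have h1 : ((u'⁻¹ * u : ↥(chevF4.group F)) : GL chevF4.Idx F) ∈
        chevF4.posUnipotent F ⊓ chevF4.diagonalSubgroup F :=
      Subgroup.mem_inf.2 ⟨(H53.mem_pos_iff CC.hC CC.W _).2 (mul_mem (inv_mem hu') hu),
        (H53.mem_diag_iff CC.hC CC.W _).2 (hx ▸ mul_mem hh' (inv_mem hh))⟩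
    rw [CC.hC.pos_inf_diag, Subgroup.mem_bot] at h1
    have h3 : u'⁻¹ * u = 1 := Subtype.ext h1
    rw [inv_mul_eq_one] at h3
    subst h3
    exact ⟨rfl, mul_left_cancel he⟩
  have hf : Function.Bijective f := by
    constructor
    · rintro ⟨π, ⟨⟨u, hu⟩, hu1⟩, ⟨h, hh⟩, ⟨⟨x, hx⟩, hx1⟩⟩
        ⟨π', ⟨⟨u', hu'⟩, hu1'⟩, ⟨h', hh'⟩, ⟨⟨x', hx'⟩, hx1'⟩⟩ e
      have e' : u * h * wr π.1 * x = u' * h' * wr π'.1 * x' := congrArg Subtype.val e
      obtain ⟨hH, huniq⟩ := normal_form_unique hA hS (hwN π.1) (hwN π'.1) (hwA π.1) (hwA π'.1)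
        (mul_mem (Uplus_le_B hu) (H_le_B hh)) (mul_mem (Uplus_le_B hu') (H_le_B hh')) hx hx' e'
      obtain rfl : π = π' := by
        have h1 := acts_mul (hwA π.1) (acts_H hA hH)
        rw [mul_inv_cancel_left, mul_one] at h1
        exact Subtype.ext (Subtype.ext (acts_unique hA hS h1 (hwA π'.1)))
      obtain ⟨hb, rfl⟩ := huniq rfl
      obtain ⟨rfl, rfl⟩ := hUH hu hu' hh hh' hb
      rfl
    · rintro ⟨g, hg⟩
      rw [Subgroup.mem_centralizer_singleton_iff] at hg
      obtain ⟨b, hb, w, hw, π, hπ, x, hx, rfl⟩ := exists_normal_form hA g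
      set π' : S.W := ⟨π, hπ.1⟩
      set h0 := w * (wr π')⁻¹
      have hh0 : h0 ∈ S.H := mem_H_of_acts_one hA hS (mul_mem hw (inv_mem (hwN _)))
        (by simpa [h0, π'] using acts_mul hπ (acts_inv (hwA π')))
      obtain ⟨u, hu, h, hh, he⟩ := mem_B hA (mul_mem hb (H_le_B hh0))
      have hfac : b * w * x = u * h * wr π' * x := by
        rw [← he]; simp [h0, mul_assoc]
      set cw := t * wr π' * t⁻¹ * (wr π')⁻¹
      have hcw : cw ∈ S.H := by
        refine mem_H_of_acts_one hA hS ?_ ?_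
        · exact mul_mem (mul_mem (mul_mem (H_le_N htH) (hwN _)) (inv_mem (H_le_N htH)))
            (inv_mem (hwN _))
        · simpa using acts_mul (acts_mul (acts_mul (acts_H hA htH) (hwA π'))
            (acts_inv (acts_H hA htH))) (acts_inv (hwA π'))
      have hxU : t * x * t⁻¹ ∈ S.Uinv π := by
        have : (S.Uinv π).map (MulAut.conj t).toMonoidHom ≤ S.Uinv π := by
          rw [H53.RootGroupSys.Uinv, MonoidHom.map_closure, Subgroup.closure_le]
          rintro _ ⟨z, ⟨r, hr, hr', hz⟩, rfl⟩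
          exact Subgroup.subset_closure ⟨r, hr, hr', acts_conj_mem (acts_H hA htH) hz⟩
        exact this ⟨x, hx, rfl⟩
      have htu : t * u * t⁻¹ ∈ S.Uplus := H_conj_Uplus hA htH hu
      have heq : (t * u * t⁻¹) * (h * cw) * wr π' * (t * x * t⁻¹) = u * h * wr π' * x := by
        have h1 : t * (u * h * wr π' * x) * t⁻¹ = u * h * wr π' * x := by
          rw [← hfac, ← hg, mul_inv_cancel_right]
        conv_rhs => rw [← h1]
        rw [show t * (u * h * wr π' * x) * t⁻¹ =
          (t * u * t⁻¹) * (t * h * t⁻¹) * (t * wr π' * t⁻¹) * (t * x * t⁻¹) by group,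
          hHab h hh]
        simp [cw, mul_assoc]
      obtain ⟨hb', hx'⟩ := (normal_form_unique hA hS (hwN π') (hwN π') (hwA π') (hwA π')
        (mul_mem (Uplus_le_B htu) (H_le_B (mul_mem hh hcw))) (mul_mem (Uplus_le_B hu) (H_le_B hh))
        hxU hx heq).2 rfl
      obtain ⟨hu', hc⟩ := hUH htu hu (mul_mem hh hcw) hh hb'
      rw [mul_eq_left] at hc
      have hfix : wr π' * t * (wr π')⁻¹ = t := by
        rw [mul_inv_eq_iff_eq_mul]
        have := mul_inv_eq_one.1 hc
        rw [mul_inv_eq_iff_eq_mul] at this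
        exact this.symm
      exact ⟨⟨⟨π', hfix⟩, ⟨⟨u, hu⟩, hu'⟩, ⟨h, hh⟩, ⟨⟨x, hx⟩, hx'⟩⟩, Subtype.ext hfac.symm⟩
  rw [← Nat.card_eq_of_bijective f hf, Nat.card_sigma]
  have hU : Nat.card fU = Fintype.card F ^ posE v := by
    rw [← card_fixPart_pos]
    exact card_fix h2 hv posRts (fun r hr => (Finset.mem_filter.1 hr).2) S.Uplus uOf_mem_pos
      fun g hg => mem_posU g hg
  have hH : Nat.card ↥S.H = (Fintype.card F - 1) ^ 4 := by
    have e : Nat.card ↥S.H = Nat.card (Fin chevF4.rank → Fˣ) := by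
      refine (Nat.card_eq_of_bijective (fun c => (⟨⟨H52.torus chevF4 c,
        CC.hC.diag_le_group (by rw [CC.hC.diagonalSubgroup_eq]; exact ⟨c, rfl⟩)⟩,
        (mem_H_iff _).2 ⟨c, rfl⟩⟩ : ↥S.H)) ⟨fun a b h => torus_injective
          (congrArg (fun z : ↥S.H => ((z.1 : ↥(chevF4.group F)) : GL chevF4.Idx F)) h), ?_⟩).symm
      rintro ⟨g, hg⟩
      obtain ⟨c, hc⟩ := (mem_H_iff g).1 hg
      exact ⟨c, Subtype.ext (Subtype.ext hc.symm)⟩
    rw [e, Nat.card_pi, Finset.prod_const, Finset.card_univ, Fintype.card_fin, rank_eq,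
      Nat.card_units, Nat.card_eq_fintype_card]
  have hV : ∀ π : Fx, ∀ k, Rep π.1.1 k → Nat.card (fV π) = Fintype.card F ^ ninvE v k := by
    intro π k hk
    rw [← card_fixPart_inv v hk]
    exact card_fix h2 hv _ (fun r hr => (Finset.mem_filter.1 hr).2.1) (S.Uinv π.1.1)
      (uOf_mem_Uinv π.1.1) fun g hg => Uinv_eq (hwA π.1) hg
  choose idx hidx using fun π : Fx => exists_rep (π := π.1.1) π.1.2
  have hterm : ∀ π : Fx, Nat.card (fU × ↥S.H × fV π) =
      Fintype.card F ^ posE v * (Fintype.card F - 1) ^ 4 * Fintype.card F ^ ninvE v (idx π) :=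
    fun π => by rw [Nat.card_prod, Nat.card_prod, hU, hH, hV π _ (hidx π), mul_assoc]
  rw [Finset.sum_congr rfl fun π _ => hterm π, ← Finset.mul_sum]
  congr 1
  have hnd : ((List.range 1152).filter fun k => stab v k).Nodup := List.nodup_range.filter _
  rw [stabExp, List.map_map, ← List.sum_toFinset _ hnd]
  refine Finset.sum_bij (fun π _ => idx π) ?_ ?_ ?_ fun π _ => rfl
  · intro π _
    rw [List.mem_toFinset, List.mem_filter, List.mem_range]
    refine ⟨(hidx π).1, ?_⟩
    simp only [stab, List.all_eq_true, List.mem_range, beq_iff_eq]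
    exact (conj_tv h2 hv hv (hwN π.1) (hwA π.1) (hidx π)).1 π.2
  · intro a _ b _ e
    exact Subtype.ext (Subtype.ext (rep_perm (hidx a) (e ▸ hidx b)))
  · intro k hk
    rw [List.mem_toFinset, List.mem_filter, List.mem_range] at hk
    obtain ⟨hk1, hk2⟩ := hk
    simp only [stab, List.all_eq_true, List.mem_range, beq_iff_eq] at hk2
    obtain ⟨π, hπ, hπk⟩ := exists_perm hk1
    let π' : S.W := ⟨π, hπ⟩
    exact ⟨⟨π', (conj_tv h2 hv hv (hwN π') (hwA π') hπk).2 hk2⟩, Finset.mem_univ _,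
      rep_index (hidx _) hπk⟩

theorem poly_value (v : ℕ) (l : List ℕ) (ds : List ℕ)
    (hl : (stabExp v == l) = true) (hb : ∀ e ∈ l, e < 25)
    (hp : H52.pEq (H52.pProd (List.replicate 4 [-1, 1] ++ [cntPoly l]))
      (H52.pProd (ds.map H52.pSubOne)) = true) (q : ℕ) (hq : 1 ≤ q) :
    (q - 1) ^ 4 * ((stabExp v).map fun e => q ^ e).sum = (ds.map fun e => q ^ e - 1).prod := by
  rw [beq_iff_eq] at hl
  rw [hl]
  apply Int.natCast_inj.1
  have h := H52.pEval_pEq (q : ℤ) _ _ hp
  rw [H52.pEval_pProd, H52.pEval_pProd, List.map_append, List.prod_append, List.map_replicate,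
    List.prod_replicate] at h
  simp only [List.map_cons, List.map_nil, List.prod_cons, List.prod_nil, mul_one] at h
  rw [← sum_pow_eq (q : ℤ) l hb] at h
  have e1 : ((q - 1 : ℕ) : ℤ) = H52.pEval (q : ℤ) [-1, 1] := by
    rw [Nat.cast_sub hq]; simp [H52.pEval]; ring
  have e2 : (((l.map fun e => q ^ e).sum : ℕ) : ℤ) = (l.map fun e => (q : ℤ) ^ e).sum := by
    rw [Nat.cast_list_sum, List.map_map]
    congr 1
  have e3 : (((ds.map fun e => q ^ e - 1).prod : ℕ) : ℤ) =
      ((ds.map H52.pSubOne).map (H52.pEval (q : ℤ))).prod := by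
    rw [Nat.cast_list_prod, List.map_map, List.map_map]
    congr 1
    refine List.map_congr_left fun e _ => ?_
    simp only [Function.comp_apply, H52.pSubOne, H52.pEval_pAdd, H52.pEval_pMon]
    rw [Nat.cast_sub (Nat.one_le_pow e q hq), Nat.cast_pow, Nat.cast_one]
    simp [H52.pEval]
    ring
  rw [Nat.cast_mul, Nat.cast_pow, e1, e2, e3]
  exact h

/-- The statement. -/
theorem main (hF : Odd (Fintype.card F)) :
    ∃ s t : ↥(chevF4.group F), orderOf s = 2 ∧ orderOf t = 2 ∧ ¬ IsConj s t ∧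
      (∀ u : ↥(chevF4.group F), orderOf u = 2 → IsConj u s ∨ IsConj u t) ∧
      Nat.card (Subgroup.centralizer ({s} : Set ↥(chevF4.group F))) = Fintype.card F ^ 16 *
        (Fintype.card F ^ 2 - 1) * (Fintype.card F ^ 4 - 1) * (Fintype.card F ^ 6 - 1) *
        (Fintype.card F ^ 8 - 1) ∧
      Nat.card (Subgroup.centralizer ({t} : Set ↥(chevF4.group F))) = Fintype.card F ^ 10 *
        (Fintype.card F ^ 2 - 1) ^ 2 * (Fintype.card F ^ 4 - 1) * (Fintype.card F ^ 6 - 1) := by
  have h2 : (2 : F) ≠ 0 := by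
    intro h
    have hc : ringChar F = 2 := by
      have : CharP F 2 := CharTwo.of_one_ne_zero_of_two_eq_zero one_ne_zero h
      exact (ringChar.eq F 2)
    exact (Nat.not_even_iff_odd.2 hF) (Nat.even_iff.2 (FiniteField.even_card_of_char_two hc))
  have hq : 2 ≤ Fintype.card F := Fintype.one_lt_card
  have hord : ∀ v, v < 16 → (∃ j < 48, evn v j = false) → orderOf (tv (F := F) v) = 2 := by
    rintro v hv ⟨j, hj, he⟩
    exact orderOf_eq_prime (by rw [pow_two, tv_sq]) (tv_ne_one h2 hv hj he)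
  have ps := poly_s
  have pt := poly_t
  simp only [Bool.and_eq_true, decide_eq_true_eq, List.all_eq_true] at ps pt
  have cs : Nat.card (Subgroup.centralizer ({tv (F := F) vS} : Set ↥(chevF4.group F))) =
      Fintype.card F ^ 16 * ([2, 4, 6, 8].map fun e => Fintype.card F ^ e - 1).prod := by
    rw [card_cent h2 (by decide), ps.1.1, mul_assoc,
      poly_value vS expS [2, 4, 6, 8] exp_s ps.1.2 ps.2 _ (by omega)]
  have ct : Nat.card (Subgroup.centralizer ({tv (F := F) vT} : Set ↥(chevF4.group F))) =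
      Fintype.card F ^ 10 * ([2, 2, 4, 6].map fun e => Fintype.card F ^ e - 1).prod := by
    rw [card_cent h2 (by decide), pt.1.1, mul_assoc,
      poly_value vT expT [2, 2, 4, 6] exp_t pt.1.2 pt.2 _ (by omega)]
  simp only [List.map_cons, List.map_nil, List.prod_cons, List.prod_nil, mul_one] at cs ct
  refine ⟨tv vS, tv vT, hord _ (by decide) (by decide +kernel), hord _ (by decide) (by decide +kernel),
    ?_, ?_, by rw [cs]; ring, by rw [ct]; ring⟩
  · intro h
    obtain ⟨c, hc⟩ := isConj_iff.1 h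
    have he : Nat.card (Subgroup.centralizer ({tv (F := F) vS} : Set ↥(chevF4.group F))) =
        Nat.card (Subgroup.centralizer ({tv (F := F) vT} : Set ↥(chevF4.group F))) := by
      refine Nat.card_congr ((MulAut.conj c).toEquiv.subtypeEquiv fun g => ?_)
      rw [Subgroup.mem_centralizer_singleton_iff, Subgroup.mem_centralizer_singleton_iff, ← hc]
      show _ ↔ c * g * c⁻¹ * (c * tv vS * c⁻¹) = c * tv vS * c⁻¹ * (c * g * c⁻¹)
      rw [show c * g * c⁻¹ * (c * tv vS * c⁻¹) = c * (g * tv vS) * c⁻¹ by group,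
        show c * tv vS * c⁻¹ * (c * g * c⁻¹) = c * (tv vS * g) * c⁻¹ by group,
        mul_left_inj, mul_right_inj]
    rw [cs, ct] at he
    have hlt : Fintype.card F ^ 2 - 1 < Fintype.card F ^ 8 - 1 := by
      have : Fintype.card F ^ 2 < Fintype.card F ^ 8 := Nat.pow_lt_pow_right (by omega) (by norm_num)
      have : 1 ≤ Fintype.card F ^ 2 := Nat.one_le_pow _ _ (by omega)
      omega
    have hp : ∀ e, 1 ≤ e → 0 < Fintype.card F ^ e - 1 := fun e he' => by
      have : Fintype.card F ≤ Fintype.card F ^ e := Nat.le_self_pow (by omega) _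
      omega
    have h10 : Fintype.card F ^ 10 ≤ Fintype.card F ^ 16 := Nat.pow_le_pow_right (by omega) (by norm_num)
    refine absurd he (ne_of_gt ?_)
    calc Fintype.card F ^ 10 * ((Fintype.card F ^ 2 - 1) * ((Fintype.card F ^ 2 - 1) *
          ((Fintype.card F ^ 4 - 1) * (Fintype.card F ^ 6 - 1))))
        < Fintype.card F ^ 10 * ((Fintype.card F ^ 2 - 1) * ((Fintype.card F ^ 4 - 1) *
          ((Fintype.card F ^ 6 - 1) * (Fintype.card F ^ 8 - 1)))) := by
          refine Nat.mul_lt_mul_of_pos_left ?_ (pow_pos (by omega) _)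
          refine Nat.mul_lt_mul_of_pos_left ?_ (hp 2 (by norm_num))
          rw [mul_comm (Fintype.card F ^ 2 - 1), mul_assoc]
          exact Nat.mul_lt_mul_of_pos_left (Nat.mul_lt_mul_of_pos_left hlt (hp 6 (by norm_num)))
            (hp 4 (by norm_num))
      _ ≤ _ := Nat.mul_le_mul_right _ h10
  · intro u hu
    refine exists_conj_rep h2 ?_ ?_
    · rw [← pow_two, ← hu]; exact pow_orderOf_eq_one u
    · intro h1; rw [h1, orderOf_one] at hu; exact absurd hu (by norm_num)

end H13.F4I
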