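import Cfsg.Agent.H13.F4I.Weyl
import Cfsg.Agent.H13.F4I.Rank
import Cfsg.Agent.H13.F4I.ToN
import Cfsg.Agent.H54.ChevSylow

/-!
Every involution of F4 in odd characteristic is conjugate into the torus.
-/

set_option autoImplicit false
set_option linter.unusedSectionVars false
set_option maxRecDepth 10000

open Cfsg.Lie
open H53.RootGroupSys

namespace H13.F4I

variable {F : Type*} [Field F]

theorem hElt_conj {r s : ℕ} (hr : r < chevF4.nroots) (hs : s < chevF4.nroots) (c : Fˣ) (t : F) :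
    H52.hElt chevF4 r (c : F) * H52.rt chevF4 s t * (H52.hElt chevF4 r (c : F))⁻¹ =
      H52.rt chevF4 s (((c ^ H52.pairInt chevF4 r s : Fˣ) : F) * t) := by
  rw [CC.hC.hElt_eq_torus hr, CC.hC.torus_conj_rt _ hs]
  congr 3
  rw [CC.hC.pairInt_eq_sum, Finset.sum_range]
  have : ∀ i : Fin chevF4.rank, (c ^ H52.crt chevF4 r i.val) ^ chevF4.cartan i.val s =
      c ^ (H52.crt chevF4 r i.val * chevF4.cartan i.val s) := fun i => (zpow_mul _ _ _).symm
  rw [Finset.prod_congr rfl fun i _ => this i]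
  generalize (Finset.univ : Finset (Fin chevF4.rank)) = S
  classical
  induction S using Finset.induction_on with
  | empty => simp
  | insert a S ha ih => rw [Finset.sum_insert ha, Finset.prod_insert ha, zpow_add, ih]

theorem mem_N_iff (g : ↥(chevF4.group F)) :
    g ∈ (H53.grpSys CC.W F).N ↔ (g : GL chevF4.Idx F) ∈ chevF4.monomialSubgroup F := by
  let K : H52.BNData chevF4 H52.tablesF4 := ⟨H52.checkedF4, CC.hok, CC.W⟩
  rw [← K.map_N]
  exact ⟨fun h => ⟨g, h, rfl⟩, fun ⟨b, hb, e⟩ => Subtype.ext e ▸ hb⟩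

theorem hElt_monomial {r : ℕ} (hr : r < chevF4.nroots) (c : Fˣ) :
    H52.hElt chevF4 r (c : F) ∈ chevF4.monomialSubgroup F :=
  (le_sup_left : chevF4.diagonalSubgroup F ≤ chevF4.monomialSubgroup F) (by
    rw [CC.hC.diagonalSubgroup_eq]
    exact ⟨_, (CC.hC.hElt_eq_torus hr c).symm⟩)

theorem nElt_monomial {r : ℕ} (hr : r < chevF4.nroots) (c : Fˣ) :
    H52.nElt chevF4 r (c : F) ∈ chevF4.monomialSubgroup F := by
  have h : H52.hElt chevF4 r (c : F) * H52.nElt chevF4 r (1 : F) = H52.nElt chevF4 r (c : F) := by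
    rw [H52.Checked.hElt_eq, ← CC.hC.nElt_inv hr, inv_mul_cancel_right]
  rw [← h]
  exact mul_mem (hElt_monomial hr c) (CC.hC.nElt_mem hr)

theorem conj_step {r s k : ℕ} {m : ℤ} (hr : r < chevF4.nroots) (hs : s < chevF4.nroots)
    (hk : k < chevF4.nroots) (hrs : s ≠ r) (hneg : s ≠ chevF4.neg r) (hkr : k ≠ r)
    (hkn : k ≠ chevF4.neg r) (hw : chevF4.commTerms r s = [(k, m, 1, 1)])
    (hw' : chevF4.commTerms r k = []) (t u : F) :
    ∃ e : F, e = -((m : F)) * (-1) ∧ H52.rt chevF4 r t * H52.rt chevF4 s u *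
      (H52.rt chevF4 r t)⁻¹ = H52.rt chevF4 s u * H52.rt chevF4 k (e * (t * u)) := by
  refine ⟨_, rfl, ?_⟩
  have h := CC.hC.comm_rt hr hs hrs hneg t u
  have e : H52.wordRt chevF4 (chevF4.commWord F r s t u) =
      H52.rt chevF4 k (-((m : F) * (t * u))) := by
    simp [H52.wordRt, ChevalleyDatum.commWord, hw, mul_assoc]
  rw [e] at h
  have h' := CC.hC.comm_rt hr hk hkr hkn t ((m : F) * (t * u))
  rw [show H52.wordRt chevF4 (chevF4.commWord F r k t ((m : F) * (t * u))) = 1 by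
    simp [H52.wordRt, ChevalleyDatum.commWord, hw'], mul_one] at h'
  rw [mul_inv_eq_iff_eq_mul, show -(m : F) * -1 * (t * u) = (m : F) * (t * u) by ring,
    mul_assoc, h', ← mul_assoc, h, mul_assoc (_ * _), CC.hC.rt_mul, neg_add_cancel, CC.hC.rt_zero,
    mul_one]

theorem neg_root {j : ℕ} (hj : j < 48) : chevF4.neg j = 47 - j := neg_eq hj

variable [Fintype F]

theorem exists_sq_sub (h2 : (2 : F) ≠ 0) (c l : F) (hc : c ≠ 0) :
    ∃ a b : F, a ^ 2 - c * b ^ 2 = l := by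
  have hodd : Fintype.card F % 2 = 1 :=
    FiniteField.odd_card_of_char_ne_two fun h => h2 (by
      haveI : CharP F 2 := ringChar.of_eq h
      exact CharTwo.two_eq_zero)
  obtain ⟨a, b, hab⟩ := FiniteField.exists_root_sum_quadratic
    (f := (Polynomial.X ^ 2 : Polynomial F))
    (g := Polynomial.C (-c) * Polynomial.X ^ 2 - Polynomial.C l)
    (Polynomial.degree_X_pow 2) (by
      have hd := Polynomial.degree_C_mul_X_pow 2 (neg_ne_zero.2 hc)
      have hl : (Polynomial.C l).degree < (Polynomial.C (-c) * Polynomial.X ^ 2).degree := by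
        rw [hd]
        exact lt_of_le_of_lt Polynomial.degree_C_le (by exact_mod_cast (show (0 : ℕ) < 2 by norm_num))
      rw [Polynomial.degree_sub_eq_left_of_degree_lt hl, hd]
      rfl) hodd
  refine ⟨a, b, ?_⟩
  simp only [Polynomial.eval_pow, Polynomial.eval_X, Polynomial.eval_sub, Polynomial.eval_mul,
    Polynomial.eval_C] at hab
  linear_combination hab

/-- An element of `N` inverting two opposite root subgroups with square coefficient. -/
theorem step_square (h2 : (2 : F) ≠ 0) {m : ↥(chevF4.group F)}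
    (hmN : m ∈ (H53.grpSys CC.W F).N) (hm1 : m * m = 1)
    {π : Equiv.Perm (Fin chevF4.nroots)} (hπ : Lin (m : GL chevF4.Idx F) π)
    {k p t : ℕ} (hk : Rep π k) (hp : p < 48) (ht : tgtOK k p t = true) {s : F}
    (h1 : ∀ u : F, (m : GL chevF4.Idx F) * H52.rt chevF4 p u * (m : GL chevF4.Idx F)⁻¹ =
      H52.rt chevF4 (chevF4.neg p) (s ^ 2 * u)) (hs : s ≠ 0) :
    mcnt t < mcnt k ∧ ∃ y m' : ↥(chevF4.group F), m' ∈ (H53.grpSys CC.W F).N ∧ m' * m' = 1 ∧
      y * m * y⁻¹ = m' ∧ ∃ π', Lin (m' : GL chevF4.Idx F) π' ∧ Rep π' t := by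
  simp only [tgtOK, Bool.and_eq_true, beq_iff_eq, List.all_eq_true, List.mem_range,
    decide_eq_true_eq] at ht
  obtain ⟨⟨htl, hlt⟩, himg⟩ := ht
  refine ⟨hlt, ?_⟩
  have hpn : p < chevF4.nroots := lt_of_lt_of_le hp nroots_eq.ge
  have h2' : ∀ u : F, (m : GL chevF4.Idx F) * H52.rt chevF4 (chevF4.neg p) u *
      (m : GL chevF4.Idx F)⁻¹ = H52.rt chevF4 p (u / s ^ 2) := by
    intro u
    have hmm : (m : GL chevF4.Idx F) * m = 1 := congrArg Subtype.val hm1
    have h := h1 (u / s ^ 2)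
    rw [mul_div_cancel₀ u (pow_ne_zero 2 hs)] at h
    rw [← h, show (m : GL chevF4.Idx F) * ((m : GL chevF4.Idx F) * H52.rt chevF4 p (u / s ^ 2) *
      (m : GL chevF4.Idx F)⁻¹) * (m : GL chevF4.Idx F)⁻¹ = ((m : GL chevF4.Idx F) * m) *
      H52.rt chevF4 p (u / s ^ 2) * ((m : GL chevF4.Idx F) * m)⁻¹ by group, hmm]
    simp
  obtain ⟨y, hy, he⟩ := (rank_twist CC hpn (pow_ne_zero 2 hs) h1 h2').2 s h2 rfl
  have hn : H52.nElt chevF4 p (1 / s) ∈ chevF4.monomialSubgroup F := by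
    simpa using nElt_monomial (F := F) hpn (Units.mk0 (1 / s) (one_div_ne_zero hs))
  set m' : ↥(chevF4.group F) := ⟨y, hy⟩ * m * (⟨y, hy⟩ : ↥(chevF4.group F))⁻¹
  have hcoe : (m' : GL chevF4.Idx F) = H52.nElt chevF4 p (1 / s) * m := he
  refine ⟨⟨y, hy⟩, m', ?_, ?_, rfl, ?_⟩
  · rw [mem_N_iff, hcoe]
    exact mul_mem hn ((mem_N_iff m).1 hmN)
  · simp only [m']
    rw [show ∀ a b : ↥(chevF4.group F), a * b * a⁻¹ * (a * b * a⁻¹) = a * (b * b) * a⁻¹ by
      intros; group, hm1, mul_one, mul_inv_cancel]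
  · obtain ⟨πr, -, hrep, hlin⟩ := exists_refl (F := F) ⟨p, hpn⟩
    refine ⟨πr * π, hcoe ▸ lin_mul (hlin _ (one_div_ne_zero hs)) hπ, htl, fun r => ?_⟩
    rw [Equiv.Perm.mul_apply, hrep.2, hk.2, himg _ (lt48 r)]

/-- One step of the reduction. -/
theorem step (h2 : (2 : F) ≠ 0) {m : ↥(chevF4.group F)}
    (hmN : m ∈ (H53.grpSys CC.W F).N) (hm1 : m * m = 1)
    {π : Equiv.Perm (Fin chevF4.nroots)} (hπ : Lin (m : GL chevF4.Idx F) π)
    {k : ℕ} (hk : Rep π k) (hne : k ≠ one) :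
    ∃ t, mcnt t < mcnt k ∧ ∃ y m' : ↥(chevF4.group F), m' ∈ (H53.grpSys CC.W F).N ∧
      m' * m' = 1 ∧ y * m * y⁻¹ = m' ∧ ∃ π', Lin (m' : GL chevF4.Idx F) π' ∧ Rep π' t := by
  have hmm : (m : GL chevF4.Idx F) * m = 1 := congrArg Subtype.val hm1
  have hππ : π * π = 1 := lin_unique (lin_mul hπ hπ) (hmm ▸ lin_one)
  have hinv : invol k = true := by
    simp only [invol, beq_iff_eq, List.all_eq_true, List.mem_range]
    intro j hj
    have h := hk.2 (π (rootF j hj))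
    rw [← Equiv.Perm.mul_apply, hππ, hk.2] at h
    exact h.symm
  have hcert := cert_ok
  simp only [certOK, Bool.or_eq_true, beq_iff_eq, List.all_eq_true, List.mem_range] at hcert
  rcases hcert k hk.1 with (h | h) | h
  · exact absurd h hne
  · simp [hinv] at h
  unfold certAt at h
  split at h
  · rename_i _ r s _ t _ _
    simp only [certA, Bool.and_eq_true, beq_iff_eq, decide_eq_true_eq] at h
    obtain ⟨⟨⟨⟨⟨hr, hs⟩, hkr⟩, hks⟩, hodd⟩, ht⟩ := h
    have hrn : r < chevF4.nroots := lt_of_lt_of_le hr nroots_eq.ge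
    have hsn : s < chevF4.nroots := lt_of_lt_of_le hs nroots_eq.ge
    obtain ⟨cr, hcr⟩ := hπ ⟨r, hrn⟩
    obtain ⟨cs, hcs⟩ := hπ ⟨s, hsn⟩
    rw [hk.2, hkr, ← neg_eq hr] at hcr
    rw [hk.2, hks, ← neg_eq hs] at hcs
    have hr2 : ∀ u : F, (m : GL chevF4.Idx F) * H52.rt chevF4 (chevF4.neg r) u *
        (m : GL chevF4.Idx F)⁻¹ = H52.rt chevF4 r (u / cr) := by
      intro u
      have h := hcr (u / (cr : F))
      rw [mul_div_cancel₀ u cr.ne_zero] at h
      rw [← h, show (m : GL chevF4.Idx F) * ((m : GL chevF4.Idx F) * H52.rt chevF4 r (u / cr) *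
        (m : GL chevF4.Idx F)⁻¹) * (m : GL chevF4.Idx F)⁻¹ = ((m : GL chevF4.Idx F) * m) *
        H52.rt chevF4 r (u / cr) * ((m : GL chevF4.Idx F) * m)⁻¹ by group, hmm]
      simp
    obtain ⟨y, hy, he⟩ := (rank_twist CC hrn cr.ne_zero hcr hr2).1 (cs : F) cs.ne_zero
      (exists_sq_sub h2 _ _ cr.ne_zero)
    set m1 : ↥(chevF4.group F) := ⟨y, hy⟩ * m * (⟨y, hy⟩ : ↥(chevF4.group F))⁻¹
    have hcoe : (m1 : GL chevF4.Idx F) = H52.hElt chevF4 r (cs : F) * m := he
    have hh : H52.hElt chevF4 r (cs : F) ∈ chevF4.monomialSubgroup F := hElt_monomial hrn cs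
    have hπ1 : Lin (m1 : GL chevF4.Idx F) π := by
      rw [hcoe, ← one_mul π]
      exact lin_mul (fun a => ⟨_, fun u => hElt_conj hrn a.isLt cs u⟩) hπ
    have hN1 : m1 ∈ (H53.grpSys CC.W F).N := by
      rw [mem_N_iff, hcoe]; exact mul_mem hh ((mem_N_iff m).1 hmN)
    have hm11 : m1 * m1 = 1 := by
      simp only [m1]
      rw [show ∀ a b : ↥(chevF4.group F), a * b * a⁻¹ * (a * b * a⁻¹) = a * (b * b) * a⁻¹ by
        intros; group, hm1, mul_one, mul_inv_cancel]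
    set e := H52.pairInt chevF4 r (chevF4.neg s) with hedef
    have heven : Even (e + 1) := by
      rw [Int.even_iff, hedef, neg_eq hs]; omega
    obtain ⟨d, hd⟩ := heven
    have h1 : ∀ u : F, (m1 : GL chevF4.Idx F) * H52.rt chevF4 s u *
        (m1 : GL chevF4.Idx F)⁻¹ =
        H52.rt chevF4 (chevF4.neg s) (((cs ^ d : Fˣ) : F) ^ 2 * u) := by
      intro u
      rw [hcoe, show H52.hElt chevF4 r (cs : F) * (m : GL chevF4.Idx F) * H52.rt chevF4 s u *
        (H52.hElt chevF4 r (cs : F) * (m : GL chevF4.Idx F))⁻¹ = H52.hElt chevF4 r (cs : F) *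
        ((m : GL chevF4.Idx F) * H52.rt chevF4 s u * (m : GL chevF4.Idx F)⁻¹) *
        (H52.hElt chevF4 r (cs : F))⁻¹ by group, hcs,
        hElt_conj hrn (CC.hC.neg_lt hsn) cs]
      congr 1
      rw [← mul_assoc, ← Units.val_mul, ← Units.val_pow_eq_pow_val, ← zpow_add_one, ← hedef, hd,
        ← zpow_natCast (cs ^ d) 2, ← zpow_mul]
      congr 3
      omega
    obtain ⟨hlt, y', m', hN', hm', he', hrest⟩ :=
      step_square h2 hN1 hm11 hπ1 hk hs ht h1 (Units.ne_zero _)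
    refine ⟨t, hlt, y' * ⟨y, hy⟩, m', hN', hm', ?_, hrest⟩
    rw [← he']; simp only [m1]; group
  · rename_i _ r s u t b _
    simp only [certB, Bool.and_eq_true, beq_iff_eq, decide_eq_true_eq, bne_iff_ne, ne_eq,
      List.isEmpty_iff] at h
    obtain ⟨⟨⟨⟨⟨⟨⟨⟨⟨⟨⟨⟨⟨⟨hr, hs⟩, hu⟩, hkr⟩, hks⟩, hku⟩, hw1⟩, hw2⟩, hw3⟩, hw4⟩, hrs⟩, hru⟩,
      hns⟩, hnu⟩, ht⟩ := h
    set σ : ℤ := if b = 1 then 1 else -1 with hσdef
    have hσ : (σ : F) ≠ 0 := by rw [hσdef]; split <;> simp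
    have hrn : r < chevF4.nroots := lt_of_lt_of_le hr nroots_eq.ge
    have hsn : s < chevF4.nroots := lt_of_lt_of_le hs nroots_eq.ge
    have hun : u < chevF4.nroots := lt_of_lt_of_le hu nroots_eq.ge
    obtain ⟨c, hc⟩ := hπ ⟨r, hrn⟩
    obtain ⟨ds, hds⟩ := hπ ⟨s, hsn⟩
    obtain ⟨du, hdu⟩ := hπ ⟨u, hun⟩
    rw [hk.2, hkr, ← neg_eq hr] at hc
    rw [hk.2, hks] at hds
    rw [hk.2, hku] at hdu
    have hde : (ds : F) * du = 1 := by
      have h1 := hdu ((ds : F) * 1)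
      rw [← hds, show (m : GL chevF4.Idx F) * ((m : GL chevF4.Idx F) * H52.rt chevF4 s (1 : F) *
        (m : GL chevF4.Idx F)⁻¹) * (m : GL chevF4.Idx F)⁻¹ = ((m : GL chevF4.Idx F) * m) *
        H52.rt chevF4 s (1 : F) * ((m : GL chevF4.Idx F) * m)⁻¹ by group, hmm, one_mul, inv_one,
        mul_one] at h1
      have h2 := CC.hC.rt_injective hsn h1
      rw [mul_one] at h2
      linear_combination -h2
    have hnr : chevF4.neg r < chevF4.nroots := CC.hC.neg_lt hrn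
    have hnn : chevF4.neg (chevF4.neg r) = r := CC.hC.neg_neg hrn
    obtain ⟨e1, he1, h1⟩ := conj_step (F := F) hrn hun hsn (Ne.symm hru)
      (by rw [neg_eq hr]; exact fun h => hnu h.symm) (Ne.symm hrs)
      (by rw [neg_eq hr]; exact fun h => hns h.symm) hw1 hw3 1 1
    obtain ⟨e2, he2, h2c⟩ := conj_step (F := F) hnr hsn hun
      (by rw [neg_eq hr]; exact fun h => hns h.symm) (by rw [hnn]; exact Ne.symm hrs)
      (by rw [neg_eq hr]; exact fun h => hnu h.symm) (by rw [hnn]; exact Ne.symm hru)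
      (by rw [neg_eq hr]; exact hw2) (by rw [neg_eq hr]; exact hw4) (c : F) (du : F)
    have h3 := congrArg (MulAut.conj (m : GL chevF4.Idx F)) h1
    simp only [map_mul, map_inv, MulAut.conj_apply] at h3
    rw [hc, hdu, hds, mul_one, mul_one] at h3
    rw [h2c] at h3
    have h4 := CC.hC.rt_injective hun (mul_left_cancel h3)
    have he : (ds : F) = c * du := by
      have hee : e1 = (σ : F) := by rw [he1]; ring
      have hee2 : e2 = (σ : F) := by rw [he2]; ring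
      rw [hee, hee2] at h4
      apply mul_left_cancel₀ hσ
      linear_combination -h4
    have hcsq : (c : F) = (ds : F) ^ 2 := by
      linear_combination (c : F) * (-hde) + (ds : F) * (-he)
    obtain ⟨hlt, hrest⟩ := step_square h2 hmN hm1 hπ hk hr ht
      (fun v => by rw [← hcsq]; exact hc v) ds.ne_zero
    exact ⟨t, hlt, hrest⟩
  · exact absurd h (by simp)

/-- Every involution is conjugate into the torus. -/
theorem exists_conj_H (h2 : (2 : F) ≠ 0) {u : ↥(chevF4.group F)} (hu : u * u = 1) :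
    ∃ y : ↥(chevF4.group F), y * u * y⁻¹ ∈ (H53.grpSys CC.W F).H := by
  have hUH : (H53.grpSys CC.W F).Uplus ⊓ (H53.grpSys CC.W F).H = ⊥ := by
    rw [eq_bot_iff]
    intro g hg
    have h : (g : GL chevF4.Idx F) ∈ chevF4.posUnipotent F ⊓ chevF4.diagonalSubgroup F :=
      Subgroup.mem_inf.2 ⟨(H53.mem_pos_iff CC.hC CC.W g).2 hg.1,
        (H53.mem_diag_iff CC.hC CC.W g).2 hg.2⟩
    rw [CC.hC.pos_inf_diag, Subgroup.mem_bot] at h
    exact Subgroup.mem_bot.2 (Subtype.ext h)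
  have hodd : ∀ p ∈ (H53.grpSys CC.W F).Uplus, ∃ k : ℕ, p ^ (2 * k + 1) = 1 := by
    intro p hp
    haveI : Fact (ringChar F).Prime := ⟨CharP.char_is_prime F (ringChar F)⟩
    obtain ⟨n, hn⟩ := CC.isPGroup_pos (F := F) (ringChar F)
      ⟨(p : GL chevF4.Idx F), (H53.mem_pos_iff CC.hC CC.W p).2 hp⟩
    have hne : ringChar F ≠ 2 := fun h => h2 (by
      haveI : CharP F 2 := ringChar.of_eq h
      exact CharTwo.two_eq_zero)
    obtain ⟨k, hk⟩ := ((Fact.out : (ringChar F).Prime).odd_of_ne_two hne).pow (n := n)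
    exact ⟨k, Subtype.ext (by rw [SubmonoidClass.coe_pow, ← hk]; exact congrArg Subtype.val hn)⟩
  obtain ⟨y, m, hmN, π, hπ, hm1, -, rfl⟩ := exists_conj_N CC.axioms CC.sep hUH hodd hu
  suffices h : ∀ n, ∀ m : ↥(chevF4.group F), m ∈ (H53.grpSys CC.W F).N → m * m = 1 →
      ∀ π, Lin (m : GL chevF4.Idx F) π → ∀ k, Rep π k → mcnt k = n →
      ∃ z, z * m * z⁻¹ ∈ (H53.grpSys CC.W F).H by
    obtain ⟨k, hk⟩ := exists_rep (π := π) hπ.1
    obtain ⟨z, hz⟩ := h _ _ hmN hm1 π (lin_of_acts hmN hπ) k hk rfl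
    exact ⟨z * y, by simpa [mul_assoc] using hz⟩
  intro n
  induction n using Nat.strong_induction_on with
  | _ n ih =>
    intro m hmN hm1 π hπ k hk hn
    by_cases hone : k = one
    · refine ⟨1, ?_⟩
      obtain rfl : π = 1 := rep_perm hk (hone ▸ rep_one)
      obtain ⟨π', hπ'⟩ := exists_acts CC.axioms hmN
      obtain rfl := lin_unique (lin_of_acts hmN hπ') hπ
      simpa using mem_H_of_acts_one CC.axioms CC.sep hmN hπ'
    · obtain ⟨t, hlt, y', m', hN', hm', he, π', hπ', ht⟩ := step h2 hmN hm1 hπ hk hone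
      obtain ⟨z, hz⟩ := ih _ (hn ▸ hlt) m' hN' hm' π' hπ' t ht rfl
      exact ⟨z * y', by rw [← he] at hz; simpa [mul_assoc] using hz⟩

end H13.F4I
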