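import Cfsg.Agent.H13.F4I.Check
import Cfsg.Agent.H53.ChevWeyl

/-!
The tables as permutations of the roots of F4, and elements acting linearly on root subgroups.
-/

set_option autoImplicit false
set_option linter.unusedSectionVars false
set_option maxRecDepth 10000

open Cfsg.Lie
open H53.RootGroupSys

namespace H13.F4I

/-- The data of type F4. -/
def CC : H54.Ctx chevF4 where
  T := H52.tablesF4
  hC := H52.checkedF4
  W := H53.weylForF4
  hok := H54.chainOK_of_mem _ (by simp)

theorem nroots_eq : chevF4.nroots = 48 := by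
  have h := roots_ok
  simp only [Bool.and_eq_true, beq_iff_eq] at h
  exact h.1.1.1.1

theorem rank_eq : chevF4.rank = 4 := by
  have h := roots_ok
  simp only [Bool.and_eq_true, beq_iff_eq] at h
  exact h.1.1.1.2

theorem simple_eq {i : ℕ} (hi : i < 4) : chevF4.simple i = simp' i := by
  have h := roots_ok
  simp only [Bool.and_eq_true, beq_iff_eq, List.all_eq_true, List.mem_range] at h
  exact h.1.1.2 i hi

theorem reflect_eq {i j : ℕ} (hi : i < 4) (hj : j < 48) : chevF4.reflectRoot i j = act i j := by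
  have h := roots_ok
  simp only [Bool.and_eq_true, beq_iff_eq, List.all_eq_true, List.mem_range] at h
  exact h.1.2 i hi j hj

theorem neg_eq {j : ℕ} (hj : j < 48) : chevF4.neg j = 47 - j := by
  have h := roots_ok
  simp only [Bool.and_eq_true, beq_iff_eq, List.all_eq_true, List.mem_range] at h
  exact h.2 j hj

theorem lt48 (r : Fin chevF4.nroots) : r.val < 48 := lt_of_lt_of_le r.isLt nroots_eq.le

theorem lt4 (i : Fin chevF4.rank) : i.val < 4 := lt_of_lt_of_le i.isLt rank_eq.le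

/-- The roots. -/
def rootF (j : ℕ) (hj : j < 48) : Fin chevF4.nroots := ⟨j, lt_of_lt_of_le hj nroots_eq.ge⟩

theorem sigma_act (i : Fin chevF4.rank) (r : Fin chevF4.nroots) :
    (CC.W.sigma i r).val = act i.val r.val := by
  rw [CC.sigma_val, reflect_eq (lt4 i) (lt48 r)]

/-- The permutations of the Weyl group. -/
def WG : Subgroup (Equiv.Perm (Fin chevF4.nroots)) := Subgroup.closure (Set.range CC.W.sigma)

theorem sigma_mem (i : Fin chevF4.rank) : CC.W.sigma i ∈ WG := Subgroup.subset_closure ⟨i, rfl⟩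

/-- The index `k` represents the permutation `π`. -/
def Rep (π : Equiv.Perm (Fin chevF4.nroots)) (k : ℕ) : Prop :=
  k < 1152 ∧ ∀ r : Fin chevF4.nroots, (π r).val = img k r.val

theorem succ_spec {k i : ℕ} (hk : k < 1152) (hi : i < 4) :
    (succ k).getD i 0 < 1152 ∧
      ∀ j < 48, img ((succ k).getD i 0) j = act i (img k j) := by
  have h := succ_ok
  simp only [succOK, Bool.and_eq_true, beq_iff_eq, List.all_eq_true, List.mem_range,
    decide_eq_true_eq] at h
  exact h k hk i hi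

theorem rep_sigma {π : Equiv.Perm (Fin chevF4.nroots)} {k : ℕ} (h : Rep π k)
    (i : Fin chevF4.rank) : Rep (CC.W.sigma i * π) ((succ k).getD i.val 0) := by
  obtain ⟨h1, h2⟩ := succ_spec h.1 (lt4 i)
  refine ⟨h1, fun r => ?_⟩
  rw [Equiv.Perm.mul_apply, sigma_act, h.2, h2 _ (lt48 r)]

theorem rep_one : Rep 1 one := by
  have h := one_ok
  simp only [oneOK, Bool.and_eq_true, beq_iff_eq, List.all_eq_true, List.mem_range,
    decide_eq_true_eq] at h
  exact ⟨h.1, fun r => (h.2 _ (lt48 r)).symm⟩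

theorem exists_rep {π : Equiv.Perm (Fin chevF4.nroots)} (hπ : π ∈ WG) : ∃ k, Rep π k := by
  refine Subgroup.closure_induction_left (p := fun x _ => ∃ k, Rep x k) ⟨one, rep_one⟩ ?_ ?_ hπ
  · rintro _ ⟨i, rfl⟩ y _ ⟨k, hk⟩
    exact ⟨_, rep_sigma hk i⟩
  · rintro _ ⟨i, rfl⟩ y _ ⟨k, hk⟩
    rw [show (CC.W.sigma i)⁻¹ = CC.W.sigma i from H53.RootGroupSys.sigma_inv (CC.axioms (F := ℚ)) i]
    exact ⟨_, rep_sigma hk i⟩

theorem sigma_inv' (i : Fin chevF4.rank) : (CC.W.sigma i)⁻¹ = CC.W.sigma i :=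
  H53.RootGroupSys.sigma_inv (CC.axioms (F := ℚ)) i

theorem rep_perm {π π' : Equiv.Perm (Fin chevF4.nroots)} {k : ℕ} (h : Rep π k) (h' : Rep π' k) :
    π = π' := Equiv.ext fun r => Fin.ext (by rw [h.2, h'.2])

theorem img_lt {k j : ℕ} (hk : k < 1152) (hj : j < 48) : img k j < 48 := by
  have h := img_ok
  simp only [imgOK, List.all_eq_true, List.mem_range, decide_eq_true_eq] at h
  exact h k hk j hj

theorem enc_inj {k k' : ℕ} (hk : k < 1152) (hk' : k' < 1152)
    (h : ∀ j < 48, img k j = img k' j) : k = k' := by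
  have h' := enc_ok
  simp only [encOK, List.all_eq_true, List.mem_range, decide_eq_true_eq] at h'
  have hs : StrictMono fun k : Fin 1152 => enc k.val :=
    Fin.strictMono_iff_lt_succ.2 fun i => h' i.val i.isLt
  have e : enc k = enc k' := by
    unfold enc
    refine List.foldr_ext _ _ _ fun j hj acc => ?_
    rw [h (24 + j) (by rw [List.mem_range] at hj; omega)]
  exact congrArg Fin.val (hs.injective (a₁ := ⟨k, hk⟩) (a₂ := ⟨k', hk'⟩) e)

theorem rep_index {π : Equiv.Perm (Fin chevF4.nroots)} {k k' : ℕ} (h : Rep π k) (h' : Rep π k') :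
    k = k' :=
  enc_inj h.1 h'.1 fun j hj => (h.2 (rootF j hj)).symm.trans (h'.2 (rootF j hj))

theorem exists_perm {k : ℕ} (hk : k < 1152) : ∃ π ∈ WG, Rep π k := by
  induction hn : ninv k using Nat.strong_induction_on generalizing k with
  | _ n ih =>
  by_cases h1 : k = one
  · exact ⟨1, one_mem _, h1 ▸ rep_one⟩
  have h := desc_ok
  simp only [descOK, Bool.or_eq_true, beq_iff_eq, List.all_eq_true, List.any_eq_true,
    List.mem_range, decide_eq_true_eq] at h
  obtain ⟨i, hi, hlt⟩ := (h k hk).resolve_left h1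
  obtain ⟨hk', hv⟩ := succ_spec hk hi
  obtain ⟨π, hπ, hrep⟩ := ih _ (hn ▸ hlt) hk' rfl
  set i' : Fin chevF4.rank := ⟨i, lt_of_lt_of_le hi rank_eq.ge⟩
  have hr := rep_sigma hrep i'
  have e : (succ ((succ k).getD i 0)).getD i 0 = k := by
    refine enc_inj hr.1 hk fun j hj => ?_
    rw [(succ_spec hk' hi).2 j hj, hv j hj]
    have hlt48 : img k j < 48 := img_lt hk hj
    have hs := CC.hC.reflect_reflect (i := i) (s := img k j) (rank_eq.symm ▸ hi)
      (nroots_eq.symm ▸ hlt48)
    have hl := CC.hC.reflect_lt (i := i) (s := img k j) (rank_eq.symm ▸ hi) (nroots_eq.symm ▸ hlt48)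
    rw [reflect_eq hi hlt48] at hs hl
    rwa [reflect_eq hi (lt_of_lt_of_le hl nroots_eq.le)] at hs
  exact ⟨_, mul_mem (sigma_mem i') hπ, e ▸ hr⟩

/-! ### Elements acting linearly. -/

variable {F : Type*} [Field F]

/-- `g` permutes the root subgroups by `π`, linearly. -/
def Lin (g : GL chevF4.Idx F) (π : Equiv.Perm (Fin chevF4.nroots)) : Prop :=
  ∀ r : Fin chevF4.nroots, ∃ c : Fˣ, ∀ t : F,
    g * H52.rt chevF4 r.val t * g⁻¹ = H52.rt chevF4 (π r).val ((c : F) * t)

theorem lin_one : Lin (1 : GL chevF4.Idx F) 1 := fun r => ⟨1, fun t => by simp⟩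

theorem lin_mul {g g' : GL chevF4.Idx F} {π π' : Equiv.Perm (Fin chevF4.nroots)}
    (h : Lin g π) (h' : Lin g' π') : Lin (g * g') (π * π') := fun r => by
  obtain ⟨c', hc'⟩ := h' r
  obtain ⟨c, hc⟩ := h (π' r)
  refine ⟨c * c', fun t => ?_⟩
  rw [Equiv.Perm.mul_apply, Units.val_mul, mul_assoc (c : F), ← hc, ← hc']
  group

theorem lin_inv {g : GL chevF4.Idx F} {π : Equiv.Perm (Fin chevF4.nroots)} (h : Lin g π) :
    Lin g⁻¹ π⁻¹ := fun r => by
  obtain ⟨c, hc⟩ := h (π⁻¹ r)
  refine ⟨c⁻¹, fun t => ?_⟩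
  have h1 := hc ((c⁻¹ : Fˣ) * t)
  rw [show π (π⁻¹ r) = r from π.apply_symm_apply r, ← mul_assoc,
    ← Units.val_mul, mul_inv_cancel, Units.val_one, one_mul] at h1
  rw [← h1]
  group

theorem lin_unique {g : GL chevF4.Idx F} {π π' : Equiv.Perm (Fin chevF4.nroots)}
    (h : Lin g π) (h' : Lin g π') : π = π' := by
  refine Equiv.ext fun r => Fin.ext ?_
  obtain ⟨c, hc⟩ := h r
  obtain ⟨c', hc'⟩ := h' r
  exact (CC.rt_eq_rt (π r).isLt (π' r).isLt (t := (c : F) * 1) (by simp)
    ((hc 1).symm.trans (hc' 1))).1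

theorem lin_torus (c : Fin chevF4.rank → Fˣ) : Lin (H52.torus chevF4 c) 1 := fun r =>
  ⟨_, fun t => CC.hC.torus_conj_rt c r.isLt t⟩

theorem lin_diag {h : GL chevF4.Idx F} (hh : h ∈ chevF4.diagonalSubgroup F) : Lin h 1 := by
  rw [CC.hC.diagonalSubgroup_eq] at hh
  obtain ⟨c, rfl⟩ := hh
  exact lin_torus c

theorem lin_sigma (i : Fin chevF4.rank) :
    Lin (H52.nElt chevF4 (chevF4.simple i.val) (1 : F)) (CC.W.sigma i) := fun r => by
  have he : ((CC.T.eps i.val r.val : ℤ) : F) ≠ 0 := by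
    rcases H52.Checked.eps_eq_or (T := CC.T) i.val r.val with h | h <;> simp [h]
  refine ⟨Units.mk0 _ he, fun t => ?_⟩
  rw [CC.sigma_val, Units.val_mk0]
  exact CC.hC.sig_conj_rt i.isLt r.isLt t

theorem exists_refl (r : Fin chevF4.nroots) :
    ∃ π ∈ WG, Rep π (refl.getD r.val 0) ∧
      ∀ t : F, t ≠ 0 → Lin (H52.nElt chevF4 r.val t) π := by
  have hR := refl_ok
  simp only [reflOK, Bool.and_eq_true, beq_iff_eq, List.all_eq_true, List.mem_range,
    decide_eq_true_eq] at hR
  obtain ⟨⟨hlt, hbase⟩, hstep⟩ := hR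
  refine CC.hC.orbit_induction (fun r => r < chevF4.nroots → ∃ π ∈ WG, Rep π (refl.getD r 0) ∧
    ∀ t : F, t ≠ 0 → Lin (H52.nElt chevF4 r t) π) ?_ ?_ r.isLt r.isLt
  · intro i hi _
    set i' : Fin chevF4.rank := ⟨i, hi⟩
    refine ⟨CC.W.sigma i', sigma_mem i', ⟨?_, fun s => ?_⟩, fun t ht => ?_⟩
    · rw [simple_eq (lt4 i')]
      exact hlt _ (lt_of_lt_of_le (simple_eq (lt4 i') ▸ CC.hC.simple_lt hi) nroots_eq.le)
    · rw [sigma_act, simple_eq (lt4 i')]
      exact (hbase i (lt4 i') _ (lt48 s)).symm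
    · have h := CC.hC.nElt_simple (F := F) hi (Units.mk0 t ht)
      rw [Units.val_mk0] at h
      rw [← h]
      have hd : Lin (H52.dgR chevF4 fun s => (Units.mk0 t ht) ^ CC.T.co s i) 1 := by
        have hχ : H52.IsChar chevF4 fun s => (Units.mk0 t ht) ^ CC.T.co s i := by
          have := CC.hC.isChar_prod (fun j => if j = i then Units.mk0 t ht else 1)
          convert this using 1
          funext s
          rw [Finset.prod_eq_single i, if_pos rfl]
          · intro j _ hj; rw [if_neg hj, one_zpow]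
          · intro h; exact absurd (Finset.mem_range.2 hi) h
        exact fun s => ⟨_, fun u => CC.hC.dgR_conj_rt hχ s.isLt u⟩
      have := lin_mul (lin_mul hd (lin_sigma i')) (lin_inv hd)
      simpa using this
  · intro i hi r hr hP _
    set i' : Fin chevF4.rank := ⟨i, hi⟩
    obtain ⟨π, hπ, hrep, hlin⟩ := hP hr
    have hr' : r < 48 := lt_of_lt_of_le hr nroots_eq.le
    refine ⟨CC.W.sigma i' * π * CC.W.sigma i', mul_mem (mul_mem (sigma_mem i') hπ) (sigma_mem i'),
      ⟨?_, fun s => ?_⟩, fun t ht => ?_⟩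
    · exact hlt _ (lt_of_lt_of_le (CC.hC.reflect_lt hi hr) nroots_eq.le)
    · rw [Equiv.Perm.mul_apply, Equiv.Perm.mul_apply, sigma_act, hrep.2, reflect_eq (lt4 i') hr']
      have h := hstep i (lt4 i') r hr' (CC.W.sigma i' s).val (lt48 _)
      rw [← h, sigma_act]
      congr 1
      have hs := CC.hC.reflect_reflect hi s.isLt
      rw [reflect_eq (lt4 i') (lt48 s), reflect_eq (lt4 i') (by
        have := (CC.W.sigma i' s).isLt
        rw [sigma_act] at this
        exact lt_of_lt_of_le this nroots_eq.le)] at hs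
      exact hs
    · have he : ((CC.T.eps i r : ℤ) : F) ≠ 0 := by
        rcases H52.Checked.eps_eq_or (T := CC.T) i r with h | h <;> simp [h]
      have h := CC.hC.sig_conj_nElt (F := F) hi hr (t / (CC.T.eps i r : F))
      rw [mul_div_cancel₀ _ he] at h
      rw [← h, show CC.W.sigma i' * π * CC.W.sigma i' =
        CC.W.sigma i' * π * (CC.W.sigma i')⁻¹ by
          rw [sigma_inv']]
      exact lin_mul (lin_mul (lin_sigma i') (hlin _ (div_ne_zero ht he)))
        (lin_inv (lin_sigma i'))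

/-- An element of `N` acts linearly by its permutation. -/
theorem lin_of_acts {g : ↥(chevF4.group F)} (hg : g ∈ (H53.grpSys CC.W F).N)
    {π : Equiv.Perm (Fin chevF4.nroots)} (hπ : (H53.grpSys CC.W F).Acts g π) :
    Lin (g : GL chevF4.Idx F) π := by
  obtain ⟨L, rfl⟩ := CC.exists_wperm hπ.1
  have hh : g * (CC.nwG (F := F) L)⁻¹ ∈ (H53.grpSys CC.W F).H := by
    refine mem_H_of_acts_one CC.axioms CC.sep (mul_mem hg (inv_mem (CC.nwG_mem_N L))) ?_
    simpa using acts_mul hπ (acts_inv (CC.nwG_acts L))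
  have h1 := lin_diag ((H53.mem_diag_iff CC.hC CC.W _).2 hh)
  have h2 : ∀ L : List (Fin chevF4.rank), Lin (H54.Ctx.nw chevF4 F L) (CC.wperm L) := by
    intro L
    induction L with
    | nil => rw [H54.Ctx.nw_nil, CC.wperm_nil]; exact lin_one
    | cons i L ih =>
      rw [H54.Ctx.nw_cons, CC.wperm_cons]
      have e : H53.nGL chevF4 (chevF4.simple i.val) (1 : F) =
          H52.nElt chevF4 (chevF4.simple i.val) (1 : F) :=
        Units.ext (by rw [H53.coe_nGL CC.hC, CC.hC.coe_nElt])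
      rw [e]
      exact lin_mul (lin_sigma i) ih
  have := lin_mul h1 (h2 L)
  rwa [← CC.coe_nwG, ← Subgroup.coe_mul, inv_mul_cancel_right, one_mul] at this

end H13.F4I
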